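import Cfsg.Agent.Lib.Spor.U43Six.Model

/-!
The centre and the order of the generated triple cover.
-/

set_option autoImplicit false
set_option maxRecDepth 100000

namespace CfsgLib.Spor.U43Six

open CfsgLib.Spor.Fi22.U6

universe u

theorem masks_prod : (CfsgLib.Lie.MultExc.UFourThree.tab.trans.map List.length).prod = 3265920 := by decide +kernel

variable {F : Type u} [Field F] [Fintype F] (hF : Fintype.card F = 9)

include hF

theorem card_psu43 : Nat.card (Cfsg.PSU 4 F 3) = 3265920 := by
  obtain ⟨H, M, ⟨e⟩⟩ := CfsgLib.Lie.MultExc.UFourThree.exists_model_u43 hF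
  rw [← Nat.card_congr e.toEquiv, M.card]
  exact masks_prod

theorem psu43_simple : IsSimpleGroup (Cfsg.PSU 4 F 3) :=
  CfsgLib.Classical.psu_isSimple (show Fintype.card F = 3 ^ 2 by rw [hF]; norm_num) (by norm_num) (by norm_num)

theorem center_psu43 : Subgroup.center (Cfsg.PSU 4 F 3) = ⊥ := by
  haveI := psu43_simple hF
  refine (IsSimpleGroup.eq_bot_or_eq_top_of_normal _ inferInstance).resolve_right fun h => ?_
  letI : CommGroup (Cfsg.PSU 4 F 3) := Group.commGroupOfCenterEqTop h
  haveI : Finite (Cfsg.PSU 4 F 3) := Nat.finite_of_card_ne_zero (by rw [card_psu43 hF]; norm_num)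
  have hp := IsSimpleGroup.prime_card (α := Cfsg.PSU 4 F 3)
  rw [card_psu43 hF] at hp
  exact absurd hp (by norm_num)

omit [Fintype F] hF in
theorem center_le_scalars {F : Type u} [Field F] [Fintype F] (hF : Fintype.card F = 9) :
    Subgroup.center K1 = scalars.subgroupOf K1 := by
  obtain ⟨f, hf, hker⟩ := exists_onto hF
  refine le_antisymm (fun z hz => ?_) fun z hz => Subgroup.mem_center_iff.2 fun x => ?_
  · rw [← hker, MonoidHom.mem_ker, ← Subgroup.mem_bot, ← center_psu43 hF, Subgroup.mem_center_iff]
    intro y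
    obtain ⟨x, rfl⟩ := hf y
    rw [← map_mul, ← map_mul, Subgroup.mem_center_iff.1 hz x]
  · exact Subtype.ext (scalars_comm hz x.1)

theorem center_K1 : Nat.card (Subgroup.center K1) = 3 := by
  rw [center_le_scalars hF, Nat.card_congr (Subgroup.subgroupOfEquivOfLe scalars_le).toEquiv, card_scalars]

theorem quot_K1 : Nonempty (K1 ⧸ Subgroup.center K1 ≃* Cfsg.PSU 4 F 3) := by
  obtain ⟨f, hf, hker⟩ := exists_onto hF
  exact ⟨(QuotientGroup.quotientMulEquivOfEq ((center_le_scalars hF).trans hker.symm)).trans
    (QuotientGroup.quotientKerEquivOfSurjective f hf)⟩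

/-- A group with centre of order three over this simple group. -/
theorem card_of_quot {K : Type*} [Group K] (hz : Nat.card (Subgroup.center K) = 3)
    (e : K ⧸ Subgroup.center K ≃* Cfsg.PSU 4 F 3) : Nat.card K = 9797760 := by
  rw [Subgroup.card_eq_card_quotient_mul_card_subgroup (Subgroup.center K), Nat.card_congr e.toEquiv, hz,
    card_psu43 hF]

theorem card_K1 : Nat.card K1 = 9797760 := (quot_K1 hF).elim (card_of_quot hF (center_K1 hF))

end CfsgLib.Spor.U43Six
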