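import Cfsg.Agent.Lib.Spor.U43Six.Mono
import Cfsg.Agent.Lib.Classical.HermOrder
import Cfsg.Agent.Lib.SU.CenterCard
import Mathlib.GroupTheory.Sylow

/-!
The monomial Sylow subgroup at three, its abelian subgroup of index nine, and the centraliser of a nonscalar
central element.
-/

set_option autoImplicit false
set_option maxRecDepth 100000

namespace CfsgLib.Spor.U43Six

open Matrix CfsgLib.Spor.Fi22.U6 Equiv

/-- The cycle on the first three letters. -/
def c012 : Perm (Fin 6) := Equiv.swap 0 2 * Equiv.swap 0 1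

/-- The cycle on the last three letters. -/
def c345 : Perm (Fin 6) := Equiv.swap 3 5 * Equiv.swap 3 4

/-- The nine permutations. -/
def p9 (q : Fin 3 × Fin 3) : Perm (Fin 6) := c012 ^ q.1.1 * c345 ^ q.2.1

theorem p9_ok : Function.Injective p9 ∧ (∀ a b, ∃ c, p9 a * p9 b = p9 c) ∧ (∀ a, ∃ c, (p9 a)⁻¹ = p9 c) ∧
    p9 (0, 0) = 1 ∧ ∀ a, Perm.sign (p9 a) = 1 := by decide +kernel

/-- The group of order nine. -/
def P9 : Subgroup (Perm (Fin 6)) where
  carrier := Set.range p9
  one_mem' := ⟨(0, 0), p9_ok.2.2.2.1⟩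
  mul_mem' := by
    rintro _ _ ⟨a, rfl⟩ ⟨b, rfl⟩
    obtain ⟨c, hc⟩ := p9_ok.2.1 a b
    exact ⟨c, hc.symm⟩
  inv_mem' := by
    rintro _ ⟨a, rfl⟩
    obtain ⟨c, hc⟩ := p9_ok.2.2.1 a
    exact ⟨c, hc.symm⟩

theorem card_P9 : Nat.card P9 = 9 := by
  show Nat.card (Set.range p9) = 9
  rw [Nat.card_range_of_injective p9_ok.1, Nat.card_eq_fintype_card]
  rfl

theorem P9_le : P9 ≤ alternatingGroup (Fin 6) := by
  rintro _ ⟨a, rfl⟩
  exact Perm.mem_alternatingGroup.2 (p9_ok.2.2.2.2 a)

/-- The monomial Sylow subgroup. -/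
def PG : Subgroup G6 := monSub P9

theorem PG_le_MG : PG ≤ MG := monSub_mono P9_le

theorem DG_le_PG : DG ≤ PG := DG_le _

theorem card_PG : Nat.card PG = 3 ^ 7 := by
  rw [PG, card_monSub, card_P9]
  norm_num

theorem card_DG : Nat.card DG = 243 := by
  rw [DG, card_monSub, Subgroup.card_bot, one_mul]

theorem card_alt : Nat.card (alternatingGroup (Fin 6)) = 360 := by
  have h := two_mul_nat_card_alternatingGroup (α := Fin 6)
  rw [Nat.card_perm, Nat.card_fin, show Nat.factorial 6 = 720 from rfl] at h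
  omega

theorem card_MG : Nat.card MG = 87480 := by
  rw [MG, card_monSub, card_alt]

theorem card_NG : Nat.card NG = 174960 := by
  rw [NG, card_monSub, Subgroup.card_top, Nat.card_perm, Nat.card_fin]
  rfl

theorem card_G6 : Nat.card G6 = 27590492160 := by
  have hF : Fintype.card Four = 2 ^ 2 := Four.card_four
  obtain ⟨C⟩ := CfsgLib.Classical.uctx_exists hF
  have h1 := CfsgLib.Classical.card_su_mul C hF (n := 6) (by norm_num)
  rw [CfsgLib.Classical.card_gu_formula C hF 6, show (2 : ℕ) ^ (6 * (6 - 1) / 2) * ∏ i ∈ Finset.range 6,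
      (if Even i then 2 ^ (i + 1) + 1 else 2 ^ (i + 1) - 1) = 82771476480 by decide +kernel] at h1
  change 3 * Nat.card G6 = 82771476480 at h1
  omega

/-- Every subgroup of three-power order has a conjugate in the monomial Sylow subgroup. -/
theorem conj_into_PG {A : Subgroup G6} (hA : IsPGroup 3 A) : ∃ g : G6, ∀ a ∈ A, g * a * g⁻¹ ∈ PG := by
  haveI := Fact.mk Nat.prime_three
  have hfac : (Nat.card G6).factorization 3 = 7 := by
    rw [card_G6, show (27590492160 : ℕ) = 3 ^ 7 * 12615680 by norm_num, Nat.factorization_mul (by norm_num)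
      (by norm_num), Finsupp.add_apply, Nat.Prime.factorization_pow Nat.prime_three, Finsupp.single_eq_same,
      Nat.factorization_eq_zero_of_not_dvd (by norm_num)]
  let P : Sylow 3 G6 := Sylow.ofCard PG (by rw [card_PG, hfac])
  obtain ⟨Q, hQ⟩ := hA.exists_le_sylow
  obtain ⟨g, hg⟩ := MulAction.exists_smul_eq G6 Q P
  refine ⟨g, fun a ha => ?_⟩
  have h : g * a * g⁻¹ ∈ (↑(g • Q) : Subgroup G6) := by
    rw [Sylow.smul_def]
    exact ⟨a, hQ ha, rfl⟩
  rw [hg] at h
  exact h

/-- The exponents whose commutators with a permutation are scalar. -/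
def Dp (q : Perm (Fin 6)) (e : E6) : Prop := ∃ c, ∀ j, e (q⁻¹ j) = e j + c

instance (q : Perm (Fin 6)) : DecidablePred (Dp q) := fun e =>
  inferInstanceAs (Decidable (∃ c, ∀ j, e (q⁻¹ j) = e j + c))

theorem dp_one : ∀ a : Fin 3 × Fin 3, a ≠ (0, 0) →
    (Finset.univ.filter fun e : E6 => ∑ c, e c = 0 ∧ Dp (p9 a) e).card ≤ 27 := by decide +kernel

theorem dp_two : ∀ a b : Fin 3 × Fin 3, a ≠ (0, 0) → p9 b ≠ 1 → p9 b ≠ p9 a → p9 b ≠ p9 a * p9 a →
    (Finset.univ.filter fun e : E6 => ∑ c, e c = 0 ∧ Dp (p9 a) e ∧ Dp (p9 b) e).card ≤ 9 := by decide +kernel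

/-- A subgroup of the monomial Sylow subgroup of order 243 that is abelian modulo scalars is diagonal. -/
theorem eq_DG {A : Subgroup G6} (hA : A ≤ PG) (hcard : Nat.card A = 243)
    (hcomm : ∀ x ∈ A, ∀ y ∈ A, x * y * x⁻¹ * y⁻¹ ∈ scalars) : A = DG := by
  classical
  choose π hπ e he using fun x : A => hA x.2
  let φ : A →* Perm (Fin 6) :=
    MonoidHom.mk' π fun x y => (mon_inj (((he (x * y)).symm.trans (mat_mul x.1 y.1)).trans
      (by rw [he x, he y, mon_mul]))).1
  have hker : ∀ x ∈ φ.ker, mat6 (x : A).1 = mon 1 (e x) := fun x hx => by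
    rw [he x, show π x = 1 from hx]
  have hsum : ∀ x, ∑ c, e x c = 0 := fun x => sum_eq_zero (he x)
  have hD : ∀ y : A, ∀ x ∈ φ.ker, Dp (π y) (e x) := fun y x hx => by
    obtain ⟨c, hc⟩ := hcomm y.1 y.2 x.1 x.2
    have h1 : mat6 y.1 * mat6 x.1 = scalarM c * (mat6 x.1 * mat6 y.1) := by
      rw [← hc, ← mat_mul, ← mat_mul, ← mat_mul]
      exact congrArg mat6 (by group)
    have hc0 : c ≠ 0 := by
      rintro rfl
      rw [scalarM, zero_smul, zero_mul, hker x hx, he y, mon_mul] at h1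
      have := congrFun (congrFun h1 (π y 0)) 0
      simp [mon] at this
      exact wp_ne _ this
    obtain ⟨a, rfl⟩ := exists_wp c hc0
    rw [hker x hx, he y, mon_mul, mon_mul, scalarM, smul_mul_assoc, one_mul] at h1
    refine ⟨a, fun j => ?_⟩
    have h2 := congrFun (congrFun h1 j) ((π y)⁻¹ j)
    simp [mon, ← wp_add] at h2
    have h3 := wp_inj _ _ h2
    simp only [Perm.coe_inv] at *
    linear_combination h3
  have hker_le : ∀ (s : Finset E6), (∀ x ∈ φ.ker, e x ∈ s) → Nat.card φ.ker ≤ s.card := fun s hs => by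
    rw [← Nat.card_eq_finsetCard]
    refine Nat.card_le_card_of_injective (fun x : φ.ker => (⟨e x.1, hs x.1 x.2⟩ : {t // t ∈ s})) fun x y h => ?_
    refine Subtype.ext (Subtype.ext (mat_inj ?_))
    rw [hker x.1 x.2, hker y.1 y.2, show e x.1 = e y.1 from congrArg (fun z : {t // t ∈ s} => z.1) h]
  have hmul : Nat.card φ.range * Nat.card φ.ker = 243 := by
    rw [← hcard, Subgroup.card_eq_card_quotient_mul_card_subgroup φ.ker,
      Nat.card_congr (QuotientGroup.quotientKerEquivRange φ).toEquiv]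
  have hr9 : φ.range ≤ P9 := by
    rintro _ ⟨x, rfl⟩
    exact hπ x
  by_cases hone : ∀ x, π x = 1
  · refine Subgroup.eq_of_le_of_card_ge (fun g hg => mem_DG.2 ⟨e ⟨g, hg⟩, hker ⟨g, hg⟩ (hone _)⟩) ?_
    rw [hcard, card_DG]
  exfalso
  push Not at hone
  obtain ⟨y, hy⟩ := hone
  obtain ⟨a, ha⟩ := hr9 ⟨y, rfl⟩
  have ha0 : a ≠ (0, 0) := by
    rintro rfl
    exact hy (ha.symm.trans p9_ok.2.2.2.1)
  by_cases hcyc : ∀ x, π x = 1 ∨ π x = p9 a ∨ π x = p9 a * p9 a
  · have h3 : Nat.card φ.range ≤ 3 := by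
      refine le_trans (Nat.card_le_card_of_injective (fun p : φ.range => (⟨p.1, ?_⟩ :
        {q // q ∈ ({1, p9 a, p9 a * p9 a} : Finset (Perm (Fin 6)))})) fun p q h => Subtype.ext (congrArg (fun z : {q // q ∈ ({1, p9 a, p9 a * p9 a} : Finset (Perm (Fin 6)))} => z.1) h)) ?_
      · obtain ⟨x, hx⟩ := p.2
        rw [← hx, show φ x = π x from rfl]
        simpa using hcyc x
      · rw [Nat.card_eq_finsetCard]
        exact Finset.card_le_three
    have h27 := (hker_le (Finset.univ.filter fun t : E6 => ∑ c, t c = 0 ∧ Dp (p9 a) t) fun x hx =>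
      Finset.mem_filter.2 ⟨Finset.mem_univ _, hsum x, by rw [ha]; exact hD y x hx⟩).trans (dp_one a ha0)
    have := Nat.mul_le_mul h3 h27
    omega
  · push Not at hcyc
    obtain ⟨z, hz1, hz2, hz3⟩ := hcyc
    obtain ⟨b, hb⟩ := hr9 ⟨z, rfl⟩
    have hb' : p9 b = π z := hb
    have h9 := (hker_le (Finset.univ.filter fun t : E6 => ∑ c, t c = 0 ∧ Dp (p9 a) t ∧ Dp (p9 b) t) fun x hx =>
      Finset.mem_filter.2 ⟨Finset.mem_univ _, hsum x, by rw [ha]; exact hD y x hx,
        by rw [hb']; exact hD z x hx⟩).trans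
      (dp_two a b ha0 (hb'.trans_ne hz1) (hb'.trans_ne hz2) (hb'.trans_ne hz3))
    have h9' := Subgroup.card_le_of_le hr9
    rw [card_P9] at h9'
    have := Nat.mul_le_mul h9' h9
    omega

/-! ### The centraliser of a nonscalar central element -/

/-- Vectors of three entries. -/
abbrev V3 : Type := Fin 3 → Four

/-- The form on three entries. -/
def h3 (u v : V3) : Four := u 0 * (v 0 * v 0) + u 1 * (v 1 * v 1) + u 2 * (v 2 * v 2)

/-- Orthonormal triples. -/
abbrev T3 : Type := Σ u : {u : V3 // h3 u u = 1}, Σ v : {v : V3 // h3 v v = 1 ∧ h3 u.1 v = 0},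
  {w : V3 // h3 w w = 1 ∧ h3 u.1 w = 0 ∧ h3 v.1 w = 0}

theorem card_T3 : Fintype.card T3 ≤ 648 := by decide +kernel

/-- The entry at a place of a block. -/
def at3 (s : Fin 2) (i : Fin 3) : Fin 6 := ⟨3 * s.1 + i.1, by omega⟩

/-- The block of the last three letters is the second one. -/
def side (i : Fin 6) : Bool := decide (3 ≤ i.1)

theorem sum_block : ∀ (s : Fin 2) (f : Fin 6 → Four), (∀ r, side r ≠ decide (s.1 = 1) → f r = 0) →
    ∑ r, f r = f (at3 s 0) + f (at3 s 1) + f (at3 s 2) := by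
  intro s f hf
  rw [Fin.sum_univ_six]
  fin_cases s
  · rw [hf 3 (by decide), hf 4 (by decide), hf 5 (by decide), add_zero, add_zero, add_zero]
    rfl
  · rw [hf 0 (by decide), hf 1 (by decide), hf 2 (by decide), zero_add, zero_add, zero_add]
    rfl

theorem central_invariant : ∀ e : E6, (∀ j, e ((p9 (1, 0))⁻¹ j) = e j) → (∀ j, e ((p9 (0, 1))⁻¹ j) = e j) →
    ∀ r c : Fin 6, e r ≠ e c ∨ side r = side c ∨ (∀ j, e j = e 0) := by decide +kernel

/-- A subgroup containing the monomial Sylow subgroup and centralising a nonscalar of it is small. -/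
theorem card_le_of_central {K : Subgroup G6} (hPK : PG ≤ K) {z : G6} (hz : z ∈ PG) (hns : z ∉ scalars)
    (hcomm : ∀ g ∈ K, g * z = z * g) : Nat.card K ≤ 419904 := by
  obtain ⟨π, -, e, he⟩ := hz
  have hcz : ∀ (q : Perm (Fin 6)) (f : E6) (hf : ∑ c, f c = 0), mo q f hf ∈ PG →
      q * π = π * q ∧ ∀ c, f (π c) + e c = e (q c) + f c := fun q f hf hm => by
    have := congrArg mat6 (hcomm _ (hPK hm))
    rw [mat_mul, mat_mul, mat_mo, he, mon_mul, mon_mul] at this
    exact ⟨(mon_inj this).1, congrFun (mon_inj this).2⟩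
  have hπ : π = 1 := Equiv.ext fun r => by
    by_contra hne
    obtain ⟨f, hf, hfs⟩ := exists_separating (π r) r hne
    have := (hcz 1 f hf (DG_le_PG (mo_mem (Subgroup.one_mem ⊥) f hf))).2 r
    simp only [Perm.one_apply] at this
    exact hfs (by linear_combination this)
  have hinv : ∀ a, ∀ j, e ((p9 a)⁻¹ j) = e j := fun a j => by
    have := (hcz (p9 a) 0 (by simp) (mo_mem (show p9 a ∈ P9 from ⟨a, rfl⟩) _ _)).2 ((p9 a)⁻¹ j)
    simp [hπ] at this
    exact this
  have hsep : ∀ r c, side r ≠ side c → e r ≠ e c := fun r c h => by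
    rcases central_invariant e (hinv _) (hinv _) r c with h1 | h1 | h1
    · exact h1
    · exact absurd h1 h
    · refine absurd ?_ hns
      refine ⟨wp (e 0), ?_⟩
      rw [he, hπ]
      ext i j
      rcases eq_or_ne i j with rfl | hij
      · simp [mon, scalarM, h1 i]
      · simp [mon, scalarM, hij]
  have hblock : ∀ g ∈ K, ∀ r c, side r ≠ side c → mat6 g r c = 0 := fun g hg r c h => by
    have h1 := congrArg (fun M : M6 => M r c) (congrArg mat6 (hcomm g hg))
    simp only [mat_mul, he, hπ] at h1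
    rw [Matrix.mul_apply, Matrix.mul_apply, Finset.sum_eq_single c (fun y _ hy => by simp [mon, hy]) (by simp),
      Finset.sum_eq_single r (fun y _ hy => by simp [mon, Ne.symm hy]) (by simp)] at h1
    simp only [mon, Perm.one_apply, if_true] at h1
    by_contra hne
    rw [mul_comm] at h1
    exact hsep r c h (wp_inj _ _ (mul_right_cancel₀ hne h1)).symm
  let col : K → Fin 2 → Fin 3 → V3 := fun g s j i => mat6 g.1 (at3 s i) (at3 s j)
  have hside : ∀ s i, side (at3 s i) = decide (s.1 = 1) := by decide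
  have hsame : ∀ s i j, at3 s i = at3 s j → i = j := by decide
  have horth : ∀ g s i j, h3 (col g s i) (col g s j) = if i = j then 1 else 0 := fun g s i j => by
    have h1 := congrFun (congrFun (unitary g.1) (at3 s i)) (at3 s j)
    rw [Matrix.mul_apply, sum_block s _ (fun r hr => by
      rw [transpose_apply, hblock g.1 g.2 r _ (by rw [hside]; exact hr), zero_mul]), Matrix.one_apply] at h1
    simp only [transpose_apply, map_apply, sq] at h1
    show _ = _
    refine h1.trans ?_
    by_cases hij : i = j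
    · simp [hij]
    · rw [if_neg hij, if_neg fun h => hij (hsame s i j h)]
  let F : K → T3 × T3 := fun g =>
    (⟨⟨col g 0 0, horth g 0 0 0⟩, ⟨col g 0 1, horth g 0 1 1, horth g 0 0 1⟩,
        ⟨col g 0 2, horth g 0 2 2, horth g 0 0 2, horth g 0 1 2⟩⟩,
      ⟨⟨col g 1 0, horth g 1 0 0⟩, ⟨col g 1 1, horth g 1 1 1, horth g 1 0 1⟩,
        ⟨col g 1 2, horth g 1 2 2, horth g 1 0 2, horth g 1 1 2⟩⟩)
  have hF : Function.Injective F := fun g g' h => by
    have hcol : ∀ s j, col g s j = col g' s j := by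
      intro s j
      fin_cases s <;> fin_cases j
      · exact congrArg (fun q : T3 × T3 => q.1.1.1) h
      · exact congrArg (fun q : T3 × T3 => q.1.2.1.1) h
      · exact congrArg (fun q : T3 × T3 => q.1.2.2.1) h
      · exact congrArg (fun q : T3 × T3 => q.2.1.1) h
      · exact congrArg (fun q : T3 × T3 => q.2.2.1.1) h
      · exact congrArg (fun q : T3 × T3 => q.2.2.2.1) h
    refine Subtype.ext (mat_inj ?_)
    ext r c
    by_cases hrc : side r = side c
    · have hdec : ∀ r c : Fin 6, side r = side c → ∃ s i j, at3 s i = r ∧ at3 s j = c := by decide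
      obtain ⟨s, i, j, rfl, rfl⟩ := hdec r c hrc
      exact congrFun (hcol s j) i
    · rw [hblock g.1 g.2 r c hrc, hblock g'.1 g'.2 r c hrc]
  refine (Nat.card_le_card_of_injective F hF).trans ?_
  rw [Nat.card_prod, Nat.card_eq_fintype_card]
  exact le_trans (Nat.mul_le_mul card_T3 card_T3) (by norm_num)

end CfsgLib.Spor.U43Six
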