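import Cfsg.Agent.Lib.Spor.U43Six.Center
import Cfsg.Agent.Lib.Spor.U43Six.Sylow

/-!
The three images of the triple cover under the diagonal automorphisms: they are triple covers, contain the even
monomial group, and no two of them are conjugate.
-/

set_option autoImplicit false
set_option maxRecDepth 100000

namespace CfsgLib.Spor.U43Six

open Matrix CfsgLib.Spor.Fi22.U6 Equiv

/-- Squaring as a ring endomorphism. -/
def sqh : Four →+* Four where
  toFun x := x ^ 2
  map_one' := one_pow 2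
  map_mul' x y := mul_pow x y 2
  map_zero' := zero_pow two_ne_zero
  map_add' := sq_add

theorem map_sq_mul (A B : M6) :
    (A * B).map (fun x => x ^ 2) = A.map (fun x => x ^ 2) * B.map (fun x => x ^ 2) :=
  Matrix.map_mul (f := sqh)

theorem unitary_mul {A B : M6} (hA : Aᵀ * A.map (fun x => x ^ 2) = 1) (hB : Bᵀ * B.map (fun x => x ^ 2) = 1) :
    (A * B)ᵀ * (A * B).map (fun x => x ^ 2) = 1 := by
  rw [transpose_mul, map_sq_mul, mul_assoc, ← mul_assoc Aᵀ, hA, one_mul, hB]

/-! ### The diagonal automorphisms -/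

/-- The diagonal exponents of the automorphism with a given parameter. -/
def dl (a : ZMod 3) : E6 := fun c => if c = 0 then a else 0

/-- The diagonal matrix of the automorphism. -/
def dm (a : ZMod 3) : M6 := mon 1 (dl a)

theorem dm_mul (a b : ZMod 3) : dm a * dm b = dm (a + b) := by
  rw [dm, dm, mon_mul, mul_one]
  refine congrArg _ (funext fun c => ?_)
  show dl a c + dl b c = dl (a + b) c
  by_cases hc : c = 0 <;> simp [dl, hc]

theorem dm_zero : dm 0 = 1 := by
  rw [dm, show dl 0 = 0 from funext fun c => by simp [dl], mon_one]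

theorem dm_neg_mul (a : ZMod 3) : dm (-a) * dm a = 1 := by rw [dm_mul, neg_add_cancel, dm_zero]

/-- The conjugate by a diagonal matrix. -/
def thFun (a : ZMod 3) (g : G6) : G6 :=
  mkG (dm a * mat6 g * dm (-a)) ⟨by
    rw [det_mul, det_mul, mul_comm (dm a).det, mul_assoc, mul_comm (dm a).det, ← det_mul (dm (-a)), dm_neg_mul,
      det_one, mul_one, g.1.2],
    unitary_mul (unitary_mul (mon_unitary _ _) (unitary g)) (mon_unitary _ _)⟩

theorem mat_thFun (a : ZMod 3) (g : G6) : mat6 (thFun a g) = dm a * mat6 g * dm (-a) := rfl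

theorem thFun_add (a b : ZMod 3) (g : G6) : thFun a (thFun b g) = thFun (a + b) g := by
  refine mat_inj ?_
  rw [mat_thFun, mat_thFun, mat_thFun, ← dm_mul a b, neg_add_rev, ← dm_mul (-b) (-a)]
  simp only [mul_assoc]

theorem thFun_zero (g : G6) : thFun 0 g = g := by
  refine mat_inj ?_
  rw [mat_thFun, neg_zero, dm_zero, one_mul, mul_one]

/-- The diagonal automorphism. -/
def th (a : ZMod 3) : G6 ≃* G6 where
  toFun := thFun a
  invFun := thFun (-a)
  left_inv g := by rw [thFun_add, neg_add_cancel, thFun_zero]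
  right_inv g := by rw [thFun_add, add_neg_cancel, thFun_zero]
  map_mul' g h := mat_inj (by
    simp only [mat_thFun, mat_mul, mul_assoc]
    rw [← mul_assoc (dm (-a)) (dm a), dm_neg_mul, one_mul])

theorem th_apply (a : ZMod 3) (g : G6) : th a g = thFun a g := rfl

theorem th_th (a b : ZMod 3) (g : G6) : th a (th b g) = th (a + b) g := thFun_add a b g

theorem th_zero (g : G6) : th 0 g = g := thFun_zero g

theorem th_mon {a : ZMod 3} {g : G6} {π : Perm (Fin 6)} {e : E6} (h : mat6 g = mon π e) :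
    ∃ e', mat6 (th a g) = mon π e' := by
  refine ⟨fun c => dl a (π c) + e c + dl (-a) c, ?_⟩
  rw [th_apply, mat_thFun, h, dm, dm, mon_mul, mon_mul, one_mul, mul_one]
  exact congrArg _ (funext fun c => by simp)

theorem th_mem_monSub {X : Subgroup (Perm (Fin 6))} {a : ZMod 3} {g : G6} (h : g ∈ monSub X) :
    th a g ∈ monSub X := by
  obtain ⟨π, hπ, e, he⟩ := h
  obtain ⟨e', he'⟩ := th_mon (a := a) he
  exact ⟨π, hπ, e', he'⟩

/-! ### The monomial group lies in the generated group -/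

theorem scalar_mul_mem {H : Subgroup G6} (hS : scalars ≤ H) {x g : G6} (hx : x ∈ H) {c : Four}
    (h : mat6 x = c • mat6 g) : g ∈ H := by
  have hc : c ≠ 0 := by
    rintro rfl
    have h1 := congrArg Matrix.det h
    rw [zero_smul, det_zero, x.1.2] at h1
    exact one_ne_zero h1
  have e : g = scal c⁻¹ (inv_ne_zero hc) * x := mat_inj (by
    rw [mat_mul, scal, mat_mkG, scalarM, smul_mul_assoc, one_mul, h, inv_smul_smul₀ hc])
  exact e ▸ mul_mem (hS (scal_mem _ _)) hx

/-- The two exponents and permutations of the five monomial generators. -/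
def mgen (k : Fin 5) : Perm (Fin 6) × E6 := if k = 0 then (1, d01) else (cyc (k.1 - 1), 0)

theorem m_words_ok : ∀ k : Fin 5, (∀ j ∈ (Data.mWords.getD k.1 ([], 0)).1, j < 4) ∧
    colsOK Data.abRows (Data.mWords.getD k.1 ([], 0)).1 (Data.mTraj.getD k.1 [])
      (ofN (Data.mWords.getD k.1 ([], 0)).2 • mon (mgen k).1 (mgen k).2) = true := by decide +kernel

theorem mgen_mem {H : Subgroup G6} (hK : K1 ≤ H) (k : Fin 5) {g : G6}
    (hg : mat6 g = mon (mgen k).1 (mgen k).2) : g ∈ H := by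
  obtain ⟨hw, hcols⟩ := m_words_ok k
  obtain ⟨x, hx, hm⟩ := word_mem hw
  rw [cols_spec hcols, ← hg] at hm
  exact scalar_mul_mem (scalars_le.trans hK) (hK hx) hm

theorem MG_le_K1 : MG ≤ K1 := by
  refine MG_le (fun g hg => mgen_mem le_rfl 0 hg) fun k hk g hg => mgen_mem le_rfl ⟨k + 1, by omega⟩ ?_
  rw [hg]
  rfl

/-! ### The three groups -/

/-- An image of the generated group. -/
def Kc (a : ZMod 3) : Subgroup G6 := K1.map (th a).toMonoidHom

theorem mem_Kc {a : ZMod 3} {g : G6} : g ∈ Kc a ↔ th (-a) g ∈ K1 := by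
  constructor
  · rintro ⟨x, hx, rfl⟩
    show th (-a) (th a x) ∈ K1
    rw [th_th, neg_add_cancel, th_zero]
    exact hx
  · intro h
    exact ⟨_, h, show th a (th (-a) g) = g by rw [th_th, add_neg_cancel, th_zero]⟩

theorem MG_le_Kc (a : ZMod 3) : MG ≤ Kc a := fun _ hg => mem_Kc.2 (MG_le_K1 (th_mem_monSub hg))

section Cover

variable {F : Type*} [Field F] [Fintype F] (hF : Fintype.card F = 9)

include hF

theorem cover_Kc (a : ZMod 3) : Nat.card (Subgroup.center (Kc a)) = 3 ∧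
    Nonempty (Kc a ⧸ Subgroup.center (Kc a) ≃* Cfsg.PSU 4 F 3) := by
  let e : K1 ≃* Kc a := K1.equivMapOfInjective (th a).toMonoidHom (th a).injective
  obtain ⟨f⟩ := quot_K1 hF
  refine ⟨(Nat.card_congr (Subgroup.centerCongr e).toEquiv).symm.trans (center_K1 hF), ⟨?_⟩⟩
  have hmap : (Subgroup.center K1).map e.toMonoidHom = Subgroup.center (Kc a) := by
    ext x
    rw [Subgroup.mem_center_iff]
    constructor
    · rintro ⟨z, hz, rfl⟩ y
      obtain ⟨y', rfl⟩ := e.surjective y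
      show e y' * e z = e z * e y'
      rw [← map_mul, ← map_mul, Subgroup.mem_center_iff.1 hz y']
    · intro hx
      obtain ⟨z, rfl⟩ := e.surjective x
      exact ⟨z, Subgroup.mem_center_iff.2 fun y => e.injective (by rw [map_mul, map_mul]; exact hx (e y)), rfl⟩
  exact (QuotientGroup.congr _ _ e hmap).symm.trans f

theorem card_Kc (a : ZMod 3) : Nat.card (Kc a) = 9797760 :=
  (cover_Kc hF a).2.elim (card_of_quot hF (cover_Kc hF a).1)

end Cover

/-! ### No two are conjugate -/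

/-- The odd monomial element. -/
def sw : G6 := mo (Equiv.swap 0 1) 0 (by simp)

/-- The witness number. -/
def widx (a : ZMod 3) (odd : Bool) : ℕ := 2 * (a.val - 1) + (if odd then 1 else 0)

theorem wit_even : ∀ a : ZMod 3, a ≠ 0 →
    dm a * tmat Data.abRows 0 * dm (-a) = tmat Data.witRows (widx a false) := by decide +kernel

theorem wit_odd : ∀ a : ZMod 3, a ≠ 0 →
    dm a * (mon (Equiv.swap 0 1) 0 * tmat Data.abRows 0 * mon (Equiv.swap 0 1) 0) * dm (-a) =
      tmat Data.witRows (widx a true) := by decide +kernel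

theorem wit_out : ∀ i : Fin 4, ∀ q : Fin 126, ∀ c : Four, c ≠ 0 → tmat Data.witRows i.1 *ᵥ pv 1 ≠ c • pv q := by
  decide +kernel

theorem wit_not_mem {x : G6} {i : ℕ} (hi : i < 4) (hx : mat6 x = tmat Data.witRows i) : x ∉ K1 := fun h => by
  obtain ⟨q, c, hc, e⟩ := maps_exists h 1
  rw [hx] at e
  exact wit_out ⟨i, hi⟩ q c hc e

theorem widx_lt : ∀ (a : ZMod 3) (b : Bool), a ≠ 0 → widx a b < 4 := by decide

theorem th_K1_ne {a : ZMod 3} (ha : a ≠ 0) : ¬ ∀ x ∈ K1, th a x ∈ K1 := fun h =>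
  wit_not_mem (widx_lt a false ha) ((mat_thFun a (gab 0)).trans (wit_even a ha)) (h _ (gab_mem 0))

theorem th_sw_K1_ne {a : ZMod 3} (ha : a ≠ 0) : ¬ ∀ x ∈ K1, th a (sw * x * sw⁻¹) ∈ K1 := fun h => by
  refine wit_not_mem (widx_lt a true ha) ?_ (h _ (gab_mem 0))
  have hinv : mat6 sw⁻¹ = mon (Equiv.swap 0 1) 0 := mat_inv_of (by
    rw [sw, mat_mo, mon_mul, Equiv.swap_mul_self, ← mon_one]
    exact congrArg _ (funext fun c => by simp))
  rw [th_apply, mat_thFun, mat_mul, mat_mul, hinv, sw, mat_mo]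
  exact wit_odd a ha

theorem card_sylow {H : Subgroup G6} (hcard : Nat.card H = 9797760) (hPH : PG ≤ H) :
    Nat.card (PG.subgroupOf H) = 3 ^ (Nat.card H).factorization 3 := by
  rw [Nat.card_congr (Subgroup.subgroupOfEquivOfLe hPH).toEquiv, card_PG, hcard,
    show (9797760 : ℕ) = 3 ^ 7 * 4480 by norm_num, Nat.factorization_mul (by norm_num) (by norm_num),
    Finsupp.add_apply, Nat.Prime.factorization_pow Nat.prime_three, Finsupp.single_eq_same,
    Nat.factorization_eq_zero_of_not_dvd (by norm_num)]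

theorem not_conj_zero {F : Type*} [Field F] [Fintype F] (hF : Fintype.card F = 9) {a : ZMod 3} (ha : a ≠ 0)
    {h : G6} (heq : ∀ x, x ∈ K1 ↔ h * x * h⁻¹ ∈ Kc a) : False := by
  haveI := Fact.mk Nat.prime_three
  haveI : Finite G6 := Nat.finite_of_card_ne_zero (by rw [card_G6]; norm_num)
  have hle : PG ≤ Kc a := PG_le_MG.trans (MG_le_Kc a)
  let P : Sylow 3 (Kc a) := Sylow.ofCard _ (card_sylow (card_Kc hF a) hle)
  -- the conjugate of the Sylow subgroup
  let A : Subgroup G6 := PG.map (MulAut.conj h).toMonoidHom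
  have hA : A ≤ Kc a := by
    rintro _ ⟨x, hx, rfl⟩
    exact (heq x).1 (MG_le_K1 (PG_le_MG hx))
  have hcA : Nat.card A = 3 ^ 7 := by
    rw [← Nat.card_congr (PG.equivMapOfInjective _ (MulAut.conj h).injective).toEquiv, card_PG]
  have hA3 : IsPGroup 3 (A.subgroupOf (Kc a)) := IsPGroup.of_card (n := 7) (by
    rw [Nat.card_congr (Subgroup.subgroupOfEquivOfLe hA).toEquiv, hcA])
  obtain ⟨Q, hQ⟩ := hA3.exists_le_sylow
  obtain ⟨k, hk⟩ := MulAction.exists_smul_eq (Kc a) Q P
  have hkA : ∀ x ∈ PG, (k : G6) * h * x * ((k : G6) * h)⁻¹ ∈ PG := fun x hx => by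
    have hmem : (⟨h * x * h⁻¹, hA ⟨x, hx, rfl⟩⟩ : Kc a) ∈ A.subgroupOf (Kc a) := ⟨x, hx, rfl⟩
    have h1 : k * ⟨h * x * h⁻¹, hA ⟨x, hx, rfl⟩⟩ * k⁻¹ ∈ (↑(k • Q) : Subgroup (Kc a)) := by
      rw [Sylow.smul_def]
      exact ⟨_, hQ hmem, rfl⟩
    rw [hk] at h1
    have h2 : (k : G6) * (h * x * h⁻¹) * (k : G6)⁻¹ ∈ PG := h1
    rwa [show (k : G6) * h * x * ((k : G6) * h)⁻¹ = (k : G6) * (h * x * h⁻¹) * (k : G6)⁻¹ by group]
  set n : G6 := (k : G6) * h with hn
  have hnK : ∀ x, x ∈ K1 ↔ n * x * n⁻¹ ∈ Kc a := fun x => by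
    rw [heq, show n * x * n⁻¹ = (k : G6) * (h * x * h⁻¹) * (k : G6)⁻¹ by rw [hn]; group]
    refine ⟨fun hx => mul_mem (mul_mem k.2 hx) (inv_mem k.2), fun hx => ?_⟩
    have := mul_mem (mul_mem (inv_mem k.2) hx) k.2
    rwa [show (k : G6)⁻¹ * ((k : G6) * (h * x * h⁻¹) * (k : G6)⁻¹) * (k : G6) = h * x * h⁻¹ by group] at this
  -- it normalises the diagonal group
  let D' : Subgroup G6 := DG.map (MulAut.conj n).toMonoidHom
  have hD' : D' = DG := by
    refine eq_DG ?_ ?_ ?_
    · rintro _ ⟨x, hx, rfl⟩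
      exact hkA x (DG_le_PG hx)
    · rw [← Nat.card_congr (DG.equivMapOfInjective _ (MulAut.conj n).injective).toEquiv, card_DG]
    · rintro _ ⟨x, hx, rfl⟩ _ ⟨y, hy, rfl⟩
      rw [← map_inv, ← map_inv, ← map_mul, ← map_mul, ← map_mul, DG_comm hx hy, mul_inv_cancel_right,
        mul_inv_cancel, map_one]
      exact one_mem _
  have hnN : n⁻¹ ∈ NG := mem_NG_of_normalizes fun x hx => by
    rw [inv_inv]
    have : n * x * n⁻¹ ∈ D' := ⟨x, hx, rfl⟩
    rwa [hD'] at this
  obtain ⟨π, -, e, he⟩ := inv_mem hnN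
  rw [inv_inv] at he
  by_cases hev : π ∈ alternatingGroup (Fin 6)
  · have hnM : n ∈ MG := ⟨π, hev, e, he⟩
    refine th_K1_ne (neg_ne_zero.2 ha) fun x hx => mem_Kc.1 ?_
    have hnK1 := MG_le_K1 hnM
    have := (hnK (n⁻¹ * x * n)).1 (mul_mem (mul_mem (inv_mem hnK1) hx) hnK1)
    rwa [show n * (n⁻¹ * x * n) * n⁻¹ = x by group] at this
  · set m : G6 := sw⁻¹ * n with hm
    have hmM : m ∈ MG := by
      refine ⟨Equiv.swap 0 1 * π, ?_, _, by
        rw [hm, mat_mul, mat_inv_of (g := sw) (Y := mon (Equiv.swap 0 1) 0) (by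
          rw [sw, mat_mo, mon_mul, Equiv.swap_mul_self, ← mon_one]
          exact congrArg _ (funext fun c => by simp)), he, mon_mul]⟩
      rw [Perm.mem_alternatingGroup, map_mul, Perm.sign_swap (by decide)]
      rw [Perm.mem_alternatingGroup] at hev
      rcases Int.units_eq_one_or (Perm.sign π) with h1 | h1
      · exact absurd h1 hev
      · rw [h1]; decide
    refine th_sw_K1_ne (neg_ne_zero.2 ha) fun x hx => mem_Kc.1 ?_
    have hmK1 := MG_le_K1 hmM
    have := (hnK (m⁻¹ * x * m)).1 (mul_mem (mul_mem (inv_mem hmK1) hx) hmK1)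
    rwa [show n * (m⁻¹ * x * m) * n⁻¹ = sw * x * sw⁻¹ by rw [hm]; group] at this

/-- Two of the three groups with different parameters are not conjugate. -/
theorem not_conj {F : Type*} [Field F] [Fintype F] (hF : Fintype.card F = 9) {a b : ZMod 3} (hab : a ≠ b)
    (g : G6) : (Kc a).map (MulAut.conj g).toMonoidHom ≠ Kc b := fun heq => by
  refine not_conj_zero hF (a := b - a) (sub_ne_zero.2 hab.symm) (h := th (-a) g) fun x => ?_
  have h1 : x ∈ K1 ↔ th a x ∈ Kc a := by rw [mem_Kc, th_th, neg_add_cancel, th_zero]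
  have h2 : th a x ∈ Kc a ↔ g * th a x * g⁻¹ ∈ Kc b := by
    rw [← heq]
    refine ⟨fun h => ⟨_, h, rfl⟩, ?_⟩
    rintro ⟨y, hy, hyx⟩
    have : y = th a x := (MulAut.conj g).injective hyx
    exact this ▸ hy
  rw [h1, h2, mem_Kc, mem_Kc, show th (-a) g * x * (th (-a) g)⁻¹ = th (-a) (g * th a x * g⁻¹) by
    rw [map_mul, map_mul, map_inv, th_th, neg_add_cancel, th_zero], th_th,
    show -(b - a) + -a = -b by ring]

end CfsgLib.Spor.U43Six
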