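import Cfsg.Agent.Lib.Spor.U43Six.Classes

/-!
The frames that share a large part of the monomial Sylow subgroup with the standard one: their vectors lie on the
coordinates and on the two blocks.
-/

set_option autoImplicit false
set_option maxRecDepth 100000

namespace CfsgLib.Spor.U43Six

open Matrix CfsgLib.Spor.Fi22.U6 Equiv

/-- The support of a vector. -/
def supp (v : V6) : Finset (Fin 6) := Finset.univ.filter fun r => v r ≠ 0

theorem mem_supp {v : V6} {r : Fin 6} : r ∈ supp v ↔ v r ≠ 0 := by simp [supp]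

/-- A column of an element. -/
def col (k : G6) (j : Fin 6) : V6 := fun r => mat6 k r j

theorem col_orth (k : G6) (i j : Fin 6) : ∑ r, col k i r * col k j r ^ 2 = if i = j then 1 else 0 := by
  have h := congrFun (congrFun (unitary k) i) j
  rw [Matrix.mul_apply, Matrix.one_apply] at h
  simpa [col] using h

theorem norm_term : ∀ a : Four, a * a ^ 2 = if a = 0 then 0 else 1 := by decide

theorem odd_card (k : G6) (j : Fin 6) : (supp (col k j)).card % 2 = 1 := by
  have h := col_orth k j j
  rw [if_pos rfl] at h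
  simp only [norm_term] at h
  rw [Finset.sum_ite, Finset.sum_const_zero, zero_add, Finset.sum_const, nsmul_one] at h
  have hS : (Finset.univ.filter fun r => ¬col k j r = 0) = supp (col k j) := rfl
  rw [hS] at h
  rcases Nat.mod_two_eq_zero_or_one (supp (col k j)).card with h0 | h1
  · exfalso
    have h2 : ((2 : ℕ) : Four) = 0 := by decide
    rw [← Nat.div_add_mod (supp (col k j)).card 2, h0, add_zero, Nat.cast_mul, h2, zero_mul] at h
    exact zero_ne_one h
  · exact h1

/-- The exponents constant on a set. -/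
def cst (S : Finset (Fin 6)) : Finset E6 :=
  Finset.univ.filter fun e => ∑ c, e c = 0 ∧ ∀ r ∈ S, ∀ s ∈ S, e r = e s

/-- The exponents summing to zero on a set. -/
def kerT (T : Finset (Fin 6)) : Finset E6 := Finset.univ.filter fun e => ∑ c, e c = 0 ∧ ∑ r ∈ T, e r = 0

theorem cst_card : ∀ S : Finset (Fin 6), 4 ≤ S.card → (cst S).card < 27 := by decide +kernel

theorem kerT_card : ∀ T : Finset (Fin 6), T.card = 3 → (kerT T).card = 81 := by decide +kernel

theorem const_sum : ∀ T : Finset (Fin 6), T.card = 3 → ∀ a : ZMod 3, ∑ _r ∈ T, a = 0 := by decide +kernel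

theorem three_wp : ∀ a b c : ZMod 3, wp a + wp b + wp c = 0 → a + b + c = 0 := by decide

theorem wp_sum_three {T : Finset (Fin 6)} (hT : T.card = 3) (e : E6) (h : ∑ r ∈ T, wp (e r) = 0) :
    ∑ r ∈ T, e r = 0 := by
  obtain ⟨a, b, c, hab, hac, hbc, rfl⟩ := Finset.card_eq_three.1 hT
  rw [Finset.sum_insert (by simp [hab, hac]), Finset.sum_insert (by simp [hbc]), Finset.sum_singleton] at h ⊢
  rw [← add_assoc] at h ⊢
  exact three_wp _ _ _ h

theorem two_sets : ∀ T T' : Finset (Fin 6), T.card = 3 → T'.card = 3 →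
    T' = T ∨ T' = Tᶜ ∨ ∃ a b : Fin 6, (a ∈ T ↔ b ∈ T) ∧ a ∈ T' ∧ b ∉ T' := by decide +kernel

theorem kerT_sub {T T' : Finset (Fin 6)} (hT : T.card = 3) (hT' : T'.card = 3)
    (h : ∀ e ∈ kerT T, e ∈ kerT T') : T' = T ∨ T' = Tᶜ := by
  rcases two_sets T T' hT hT' with h1 | h1 | ⟨a, b, hab, ha, hb⟩
  · exact Or.inl h1
  · exact Or.inr h1
  exfalso
  let e : E6 := fun c => (if c = a then 1 else 0) - (if c = b then 1 else 0)
  have hsum : ∀ U : Finset (Fin 6), ∑ c ∈ U, e c = (if a ∈ U then 1 else 0) - (if b ∈ U then 1 else 0) := fun U => by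
    simp [e, Finset.sum_sub_distrib, Finset.sum_ite_eq']
  have he : e ∈ kerT T := Finset.mem_filter.2 ⟨Finset.mem_univ _, by rw [hsum]; simp, by
    rw [hsum]; by_cases hT1 : a ∈ T <;> simp [hT1, ← hab]⟩
  have := (Finset.mem_filter.1 (h e he)).2.2
  rw [hsum, if_pos ha, if_neg hb] at this
  exact absurd this (by decide)

/-- The two blocks. -/
def blk (s : Fin 2) : Finset (Fin 6) := Finset.univ.filter fun r => side r = decide (s.1 = 1)

theorem invariant_sets : ∀ T : Finset (Fin 6), T.card = 3 → (T.image c012 = T ∨ T.image c012 = Tᶜ) →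
    (T.image c345 = T ∨ T.image c345 = Tᶜ) → ∃ s, T = blk s := by decide +kernel

/-- The supports of a frame meeting the Sylow subgroup in index at most three. -/
theorem supp_cases {k : G6} (hkN : k ∉ NG) {Q : Subgroup G6} (hQ : Q ≤ PG)
    (hkQ : ∀ q ∈ Q, k⁻¹ * q * k ∈ NG) (hcard : 3 ^ 6 ≤ Nat.card Q) (j : Fin 6) :
    (supp (col k j)).card = 1 ∨ ∃ s, supp (col k j) = blk s := by
  classical
  haveI := Fact.mk Nat.prime_three
  haveI : Finite G6 := Nat.finite_of_card_ne_zero (by rw [card_G6]; norm_num)
  let B : Subgroup G6 := Q ⊓ DG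
  -- the permutations and exponents
  choose ρ hρ f hf using fun q : Q => hkQ q.1 q.2
  choose σ hσ e he using fun q : Q => hQ q.2
  have hrel : ∀ (q : Q) (r j : Fin 6),
      wp (e q r) * col k j r = col k (ρ q j) (σ q r) * wp (f q j) := fun q r j => by
    have h : mat6 q.1 * mat6 k = mat6 k * mat6 (k⁻¹ * q.1 * k) := by
      rw [← mat_mul, ← mat_mul]
      exact congrArg mat6 (by group)
    rw [he, hf] at h
    have h1 := congrFun (congrFun h (σ q r)) j
    rw [Matrix.mul_apply, Matrix.mul_apply, Finset.sum_eq_single r (fun y _ hy => by simp [mon, Ne.symm hy]) (by simp),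
      Finset.sum_eq_single (ρ q j) (fun y _ hy => by simp [mon, hy]) (by simp)] at h1
    simp only [mon, if_true] at h1
    exact h1
  let φ : Q →* Perm (Fin 6) := MonoidHom.mk' ρ fun x y => (mon_inj (((hf (x * y)).symm.trans
    (show mat6 (k⁻¹ * (x.1 * y.1) * k) = mat6 (k⁻¹ * x.1 * k) * mat6 (k⁻¹ * y.1 * k) by
      rw [← mat_mul]; exact congrArg mat6 (by group))).trans (by rw [hf x, hf y, mon_mul]))).1
  let ψ : Q →* Perm (Fin 6) := MonoidHom.mk' σ fun x y => (mon_inj (((he (x * y)).symm.trans
    (mat_mul x.1 y.1)).trans (by rw [he x, he y, mon_mul]))).1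
  let sh : ψ.ker → E6 := fun b => e b.1
  have hsum : ∀ q, ∑ c, e q c = 0 := fun q => sum_eq_zero (he q)
  have hinj : ∀ (W : Subgroup ψ.ker) (s : Finset E6), (∀ b ∈ W, sh b ∈ s) → Nat.card W ≤ s.card := fun W s hs => by
    rw [← Nat.card_eq_finsetCard]
    refine Nat.card_le_card_of_injective (fun x : W => (⟨sh x.1, hs x.1 x.2⟩ : {t // t ∈ s})) fun x y h => ?_
    have h1 : e x.1.1 = e y.1.1 := congrArg (fun z : {t // t ∈ s} => z.1) h
    refine Subtype.ext (Subtype.ext (Subtype.ext (mat_inj ?_)))
    rw [he, he, h1, show σ x.1.1 = 1 from x.1.2, show σ y.1.1 = 1 from y.1.2]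
  have hr9 : ψ.range ≤ P9 := by
    rintro _ ⟨x, rfl⟩
    exact hσ x
  have hmul : Nat.card ψ.range * Nat.card ψ.ker = Nat.card Q := by
    rw [Subgroup.card_eq_card_quotient_mul_card_subgroup ψ.ker,
      Nat.card_congr (QuotientGroup.quotientKerEquivRange ψ).toEquiv]
  have h81 : 81 ≤ Nat.card ψ.ker := by
    have h := Subgroup.card_le_of_le hr9
    rw [card_P9] at h
    have := Nat.mul_le_mul_right (Nat.card ψ.ker) h
    omega
  have hker3 : IsPGroup 3 ψ.ker := by
    refine IsPGroup.to_subgroup ?_ _
    exact (IsPGroup.of_card (n := 7) card_PG).to_le hQ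
  -- the orbit of a column under the diagonal part
  letI : MulAction ψ.ker (Fin 6) := MulAction.compHom _ (φ.comp ψ.ker.subtype)
  have hfix : ∀ (b : ψ.ker) (r j : Fin 6), wp (sh b r) * col k j r = col k (ρ b.1 j) r * wp (f b.1 j) := fun b r j => by
    have := hrel b.1 r j
    rwa [show σ b.1 = 1 from b.2, Perm.one_apply] at this
  have hC : ∀ j, 27 ≤ (cst (supp (col k j))).card := fun j => by
    have horb : Nat.card (MulAction.orbit ψ.ker j) ≤ 3 := by
      obtain ⟨n, hn⟩ := hker3.card_orbit j
      have h6 : Nat.card (MulAction.orbit ψ.ker j) ≤ 6 :=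
        le_trans (Nat.card_le_card_of_injective (fun x => x.1) Subtype.val_injective) (by simp)
      rw [hn] at h6 ⊢
      rcases n with _ | _ | n
      · norm_num
      · norm_num
      · have : 3 ^ 2 ≤ 3 ^ (n + 1 + 1) := Nat.pow_le_pow_right (by norm_num) (by omega)
        omega
    have hos := Nat.card_congr (MulAction.orbitProdStabilizerEquivGroup ψ.ker j)
    rw [Nat.card_prod] at hos
    have h27 : 27 ≤ Nat.card (MulAction.stabilizer ψ.ker j) := by
      have := Nat.mul_le_mul_right (Nat.card (MulAction.stabilizer ψ.ker j)) horb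
      omega
    refine h27.trans (hinj _ _ fun b hb => Finset.mem_filter.2 ⟨Finset.mem_univ _, hsum _, ?_⟩)
    have hb' : ρ b.1 j = j := hb
    have key : ∀ r ∈ supp (col k j), sh b r = f b.1 j := fun r hr => by
      have := hfix b r j
      rw [hb', mul_comm (col k j r)] at this
      exact wp_inj _ _ (mul_right_cancel₀ (mem_supp.1 hr) this)
    exact fun r hr s hs => (key r hr).trans (key s hs).symm
  have hone : ∀ j, (supp (col k j)).card = 1 ∨ (supp (col k j)).card = 3 := fun j => by
    have h1 := odd_card k j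
    have h4 : (supp (col k j)).card < 4 := Nat.lt_of_not_le fun h4 => by
      have := cst_card _ h4
      have := hC j
      omega
    omega
  have hB : ∀ j, (supp (col k j)).card = 3 →
      (Finset.univ.image sh = kerT (supp (col k j))) := fun j hj => by
    refine Finset.eq_of_subset_of_card_le (fun t ht => ?_) ?_
    · obtain ⟨b, -, rfl⟩ := Finset.mem_image.1 ht
      refine Finset.mem_filter.2 ⟨Finset.mem_univ _, hsum _, ?_⟩
      by_cases hb : ρ b.1 j = j
      · rw [Finset.sum_congr rfl (g := fun _ => f b.1 j) fun r hr => ?_]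
        · exact const_sum _ hj _
        · have := hfix b r j
          rw [hb, mul_comm (col k j r)] at this
          exact wp_inj _ _ (mul_right_cancel₀ (mem_supp.1 hr) this)
      · refine wp_sum_three hj _ ?_
        have h0 := col_orth k (ρ b.1 j) j
        rw [if_neg hb] at h0
        have h1 : ∑ r, col k (ρ b.1 j) r * col k j r ^ 2 =
            wp (-f b.1 j) * ∑ r ∈ supp (col k j), wp (sh b r) := by
          rw [Finset.mul_sum, ← Finset.sum_subset (Finset.subset_univ (supp (col k j))) fun r _ hr => by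
            rw [show col k j r = 0 from not_not.1 fun h => hr (mem_supp.2 h)]; simp]
          refine Finset.sum_congr rfl fun r hr => ?_
          have h2 : col k (ρ b.1 j) r = wp (-f b.1 j) * (wp (sh b r) * col k j r) := by
            rw [hfix b r j, mul_comm (col k (ρ b.1 j) r), ← mul_assoc, ← wp_add, neg_add_cancel]
            exact (one_mul _).symm
          rw [h2, mul_assoc, mul_assoc, norm_term, if_neg (mem_supp.1 hr), mul_one]
        rw [h1, mul_eq_zero] at h0
        exact h0.resolve_left (wp_ne _)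
    · rw [kerT_card _ hj]
      refine h81.trans (le_trans ?_ (hinj ⊤ _ fun b _ => Finset.mem_image_of_mem _ (Finset.mem_univ b)))
      rw [Subgroup.card_top]
  rcases hone j with h | h
  · exact Or.inl h
  refine Or.inr ?_
  -- all permutations of the Sylow subgroup occur
  have hker81 : Nat.card ψ.ker ≤ 81 := by
    rw [← Subgroup.card_top]
    refine (hinj ⊤ _ fun b _ => ?_).trans (kerT_card _ h).le
    rw [← hB j h]
    exact Finset.mem_image_of_mem _ (Finset.mem_univ b)
  have hrange : ψ.range = P9 := by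
    refine Subgroup.eq_of_le_of_card_ge hr9 ?_
    rw [card_P9]
    have := Nat.mul_le_mul_left (Nat.card ψ.range) hker81
    omega
  have hmove : ∀ a : Fin 3 × Fin 3,
      (supp (col k j)).image (p9 a) = supp (col k j) ∨ (supp (col k j)).image (p9 a) = (supp (col k j))ᶜ := by
    intro a
    obtain ⟨q, hq⟩ : p9 a ∈ ψ.range := hrange ▸ ⟨a, rfl⟩
    have hq' : σ q = p9 a := hq
    have himg : supp (col k (ρ q j)) = (supp (col k j)).image (p9 a) := by
      ext r
      obtain ⟨r', rfl⟩ := (p9 a).surjective r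
      have h1 := hrel q r' j
      rw [hq'] at h1
      rw [mem_supp, Finset.mem_image]
      constructor
      · intro hr
        refine ⟨r', mem_supp.2 fun h0 => ?_, rfl⟩
        rw [h0, mul_zero, eq_comm, mul_eq_zero] at h1
        exact h1.elim hr (wp_ne _)
      · rintro ⟨x, hx, hxr⟩
        rw [(p9 a).injective hxr] at hx
        intro h0
        rw [h0, zero_mul, mul_eq_zero] at h1
        exact h1.elim (wp_ne _) (mem_supp.1 hx)
    have h3 : (supp (col k (ρ q j))).card = 3 := by
      rw [himg, Finset.card_image_of_injective _ (p9 a).injective, h]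
    rw [← himg]
    refine kerT_sub h h3 fun t ht => ?_
    rwa [← hB _ h3, hB j h]
  have e1 : p9 (1, 0) = c012 := by decide
  have e2 : p9 (0, 1) = c345 := by decide
  exact invariant_sets _ h (e1 ▸ hmove (1, 0)) (e2 ▸ hmove (0, 1))

end CfsgLib.Spor.U43Six
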