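import Cfsg.Agent.Lib.Spor.U43Six.Recog
import Cfsg.Agent.Lib.Char.UnitalGraph

/-!
The triple covers of the four dimensional unitary simple group over nine elements inside the six dimensional special
unitary group over four elements form three classes.
-/

set_option autoImplicit false
set_option maxRecDepth 100000

namespace CfsgLib.Spor.U43Six

open Matrix CfsgLib.Spor.Fi22.U6 Equiv

variable {F : Type*} [Field F] [Fintype F]

/-- Every triple cover is conjugate to one of the three groups. -/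
theorem exists_conj (hF : Fintype.card F = 9) {K : Subgroup G6} (hz : Nat.card (Subgroup.center K) = 3)
    (eK : Nonempty (K ⧸ Subgroup.center K ≃* Cfsg.PSU 4 F 3)) :
    ∃ (g : G6) (a : ZMod 3), K.map (MulAut.conj g).toMonoidHom = Kc a := by
  classical
  obtain ⟨eK⟩ := eK
  haveI := Fact.mk Nat.prime_three
  haveI : Finite G6 := Nat.finite_of_card_ne_zero (by rw [card_G6]; norm_num)
  obtain ⟨f, hf, hker⟩ := exists_onto hF
  have hcard : Nat.card K = 9797760 := card_of_quot hF hz eK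
  let p : K →* Cfsg.PSU 4 F 3 := eK.toMonoidHom.comp (QuotientGroup.mk' (Subgroup.center K))
  have hp : Function.Surjective p := eK.surjective.comp (QuotientGroup.mk'_surjective _)
  have hpker : p.ker = Subgroup.center K := by
    ext x
    simp only [p, MonoidHom.mem_ker, MonoidHom.coe_comp, Function.comp_apply, MulEquiv.coe_toMonoidHom,
      MulEquiv.map_eq_one_iff, QuotientGroup.mk'_apply, QuotientGroup.eq_one_iff]
  have hk3 : Nat.card p.ker = 3 := by rw [hpker]; exact hz
  have hkf : Nat.card f.ker = 3 := by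
    rw [hker, Nat.card_congr (Subgroup.subgroupOfEquivOfLe scalars_le).toEquiv, card_scalars]
  -- the diagonal and monomial images
  have hlift : ∀ (X : Subgroup G6), scalars ≤ X → X ≤ K1 →
      Nat.card (((X.subgroupOf K1).map f).comap p) = Nat.card X := fun X hS hX => by
    have e1 : ((X.subgroupOf K1).map f).comap f = X.subgroupOf K1 := by
      rw [Subgroup.comap_map_eq, sup_eq_left, hker]
      exact Subgroup.comap_mono hS
    have key : ∀ {M : Type} [Group M] (q : M →* Cfsg.PSU 4 F 3), Function.Surjective q → Nat.card q.ker = 3 →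
        ∀ Y : Subgroup (Cfsg.PSU 4 F 3), Nat.card (Y.comap q) = 3 * Nat.card Y := fun q hq hq3 Y => by
      let r : Y.comap q →* Y := q.subgroupComap Y
      have hr : Function.Surjective r := fun y => by
        obtain ⟨x, hx⟩ := hq y.1
        exact ⟨⟨x, by rw [Subgroup.mem_comap, hx]; exact y.2⟩, Subtype.ext hx⟩
      have hr3 : Nat.card r.ker = 3 := by
        rw [show r.ker = q.ker.subgroupOf (Y.comap q) by
            ext x; rw [MonoidHom.mem_ker, Subgroup.mem_subgroupOf, MonoidHom.mem_ker, Subtype.ext_iff]; rfl,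
          Nat.card_congr (Subgroup.subgroupOfEquivOfLe (fun x (hx : x ∈ q.ker) => show q x ∈ Y by
            rw [MonoidHom.mem_ker.1 hx]; exact one_mem _)).toEquiv, hq3]
      rw [Subgroup.card_eq_card_quotient_mul_card_subgroup r.ker, hr3,
        Nat.card_congr (QuotientGroup.quotientKerEquivOfSurjective r hr).toEquiv, mul_comm]
    rw [key p hp hk3, ← key f hf hkf, e1, Nat.card_congr (Subgroup.subgroupOfEquivOfLe hX).toEquiv]
  let A : Subgroup K := ((DG.subgroupOf K1).map f).comap p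
  let N : Subgroup K := ((MG.subgroupOf K1).map f).comap p
  have hcA : Nat.card A = 243 := by
    rw [hlift DG scalars_le_DG ((DG_le _).trans MG_le_K1), card_DG]
  have hcN : Nat.card N = 87480 := by
    rw [hlift MG (scalars_le_DG.trans (DG_le _)) MG_le_K1, card_MG]
  have hnorm : ∀ n ∈ N, ∀ x ∈ A, n⁻¹ * x * n ∈ A := fun n hn x hx => by
    obtain ⟨m, hm, em⟩ := hn
    obtain ⟨d, hd, ed⟩ := hx
    refine ⟨m⁻¹ * d * m, ?_, by rw [map_mul, map_mul, map_inv, em, ed, map_mul, map_mul, map_inv]⟩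
    show (m : G6)⁻¹ * d * m ∈ DG
    have := conj_DG (inv_mem (MG_le_NG hm)) hd
    rwa [inv_inv] at this
  have hcomm : ∀ x ∈ A, ∀ y ∈ A, x * y * x⁻¹ * y⁻¹ ∈ Subgroup.center K := fun x hx y hy => by
    obtain ⟨d, hd, ed⟩ := hx
    obtain ⟨d', hd', ed'⟩ := hy
    rw [← hpker, MonoidHom.mem_ker, map_mul, map_mul, map_mul, map_inv, map_inv, ← ed, ← ed', ← map_inv, ← map_inv,
      ← map_mul, ← map_mul, ← map_mul, show d * d' * d⁻¹ * d'⁻¹ = 1 from Subtype.ext (by
        show (d : G6) * d' * (d : G6)⁻¹ * (d' : G6)⁻¹ = 1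
        rw [DG_comm (show (d : G6) ∈ DG from hd) (show (d' : G6) ∈ DG from hd'), mul_inv_cancel_right,
          mul_inv_cancel]), map_one]
  have hcenA : Subgroup.center K ≤ A := fun z hz => by
    rw [← hpker] at hz
    show p z ∈ (DG.subgroupOf K1).map f
    rw [MonoidHom.mem_ker.1 hz]
    exact one_mem _
  -- a conjugation into the monomial Sylow subgroup
  obtain ⟨Q, hQ⟩ := (IsPGroup.of_card (p := 3) (n := 5) (by rw [hcA]; norm_num) : IsPGroup 3 A).exists_le_sylow
  have hQ7 : Nat.card (Q : Subgroup K) = 3 ^ 7 := by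
    rw [Q.card_eq_multiplicity, hcard, show (9797760 : ℕ) = 3 ^ 7 * 4480 by norm_num,
      Nat.factorization_mul (by norm_num) (by norm_num), Finsupp.add_apply,
      Nat.Prime.factorization_pow Nat.prime_three, Finsupp.single_eq_same,
      Nat.factorization_eq_zero_of_not_dvd (by norm_num)]
  obtain ⟨g, hg⟩ := conj_into_PG (A := (Q : Subgroup K).map K.subtype) (IsPGroup.of_card (n := 7) (by
    rw [← Nat.card_congr ((Q : Subgroup K).equivMapOfInjective _ Subtype.val_injective).toEquiv, hQ7]))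
  let ι : K →* G6 := (MulAut.conj g).toMonoidHom.comp K.subtype
  have hι : Function.Injective ι := (MulAut.conj g).injective.comp Subtype.val_injective
  let L : Subgroup G6 := K.map (MulAut.conj g).toMonoidHom
  have hLι : L = (⊤ : Subgroup K).map ι := by
    rw [← MonoidHom.range_eq_map, MonoidHom.range_comp, Subgroup.range_subtype]
  have hQP : (Q : Subgroup K).map ι = PG := by
    refine Subgroup.eq_of_le_of_card_ge ?_ ?_
    · rintro _ ⟨x, hx, rfl⟩
      exact hg _ ⟨x, hx, rfl⟩
    · rw [card_PG, ← Nat.card_congr ((Q : Subgroup K).equivMapOfInjective ι hι).toEquiv, hQ7]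
  have hPL : PG ≤ L := by rw [hLι, ← hQP]; exact Subgroup.map_mono le_top
  have hcL : Nat.card L = 9797760 := by
    rw [← Nat.card_congr (K.equivMapOfInjective _ (MulAut.conj g).injective).toEquiv, hcard]
  -- the centre goes to the scalars
  have hZ : ∀ z ∈ Subgroup.center K, ι z ∈ scalars := fun z hz => by
    by_contra hns
    have := card_le_of_central hPL (hQP ▸ ⟨z, hQ (hcenA hz), rfl⟩) hns fun y hy => by
      rw [hLι] at hy
      obtain ⟨x, -, rfl⟩ := hy
      rw [← map_mul, ← map_mul, Subgroup.mem_center_iff.1 hz x]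
    omega
  have hAD : A.map ι = DG := by
    refine eq_DG ?_ ?_ ?_
    · exact (Subgroup.map_mono hQ).trans hQP.le
    · rw [← Nat.card_congr (A.equivMapOfInjective ι hι).toEquiv, hcA]
    · rintro _ ⟨x, hx, rfl⟩ _ ⟨y, hy, rfl⟩
      rw [← map_inv, ← map_inv, ← map_mul, ← map_mul, ← map_mul]
      exact hZ _ (hcomm x hx y hy)
  have hNN : N.map ι ≤ NG := by
    rintro _ ⟨n, hn, rfl⟩
    refine mem_NG_of_normalizes fun a ha => ?_
    rw [← hAD] at ha ⊢
    obtain ⟨x, hx, rfl⟩ := ha
    exact ⟨_, hnorm n hn x hx, by rw [map_mul, map_mul, map_inv]⟩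
  have hidx : ((N.map ι).subgroupOf NG).index = 2 := by
    have h := Subgroup.card_mul_index ((N.map ι).subgroupOf NG)
    rw [Nat.card_congr (Subgroup.subgroupOfEquivOfLe hNN).toEquiv,
      ← Nat.card_congr (N.equivMapOfInjective ι hι).toEquiv, hcN, card_NG] at h
    omega
  have hsq : ∀ x ∈ NG, x * x ∈ N.map ι := fun x hx =>
    Subgroup.mem_subgroupOf.1 (Subgroup.mul_self_mem_of_index_two hidx ⟨x, hx⟩)
  have hthree : ∀ x ∈ NG, x ^ 3 = 1 → x ∈ N.map ι := fun x hx h3 => by
    have h := hsq _ (mul_mem hx hx)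
    rwa [show x * x * (x * x) = x ^ 3 * x by rw [pow_succ, pow_two]; simp only [mul_assoc], h3, one_mul] at h
  have hMG : MG ≤ L := by
    refine le_trans (MG_le (H := N.map ι) (fun x hx => hthree x ⟨1, trivial, d01, hx⟩ ?_)
      fun k hk x hx => hthree x ⟨cyc k, trivial, 0, hx⟩ ?_) (hLι ▸ Subgroup.map_mono le_top)
    · refine mat_inj ?_
      rw [pow_succ, pow_two, mat_mul, mat_mul, hx, mat_one, mon_mul, mon_mul, ← mon_one]
      exact congrArg₂ mon (by simp) (by decide)
    · refine mat_inj ?_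
      rw [pow_succ, pow_two, mat_mul, mat_mul, hx, mat_one, mon_mul, mon_mul, ← mon_one]
      exact congrArg₂ mon ((by decide +kernel : ∀ k < 4, cyc k * cyc k * cyc k = 1) k hk) (funext fun c => by simp)
  obtain ⟨a, ha⟩ := eq_Kc hF hMG hcL
  exact ⟨g, a, ha⟩

/-- The classes in the tabulated model. -/
theorem three_classes_four (hF : Fintype.card F = 9) : ∃ K₁ K₂ K₃ : Subgroup G6,
    (∀ K ∈ [K₁, K₂, K₃], Nat.card (Subgroup.center K) = 3 ∧ Nonempty (K ⧸ Subgroup.center K ≃* Cfsg.PSU 4 F 3)) ∧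
    (¬ ∃ g : G6, K₁.map (MulAut.conj g).toMonoidHom = K₂) ∧ (¬ ∃ g : G6, K₁.map (MulAut.conj g).toMonoidHom = K₃) ∧
    (¬ ∃ g : G6, K₂.map (MulAut.conj g).toMonoidHom = K₃) ∧
    ∀ K : Subgroup G6, Nat.card (Subgroup.center K) = 3 → Nonempty (K ⧸ Subgroup.center K ≃* Cfsg.PSU 4 F 3) →
      ∃ g : G6, K.map (MulAut.conj g).toMonoidHom = K₁ ∨ K.map (MulAut.conj g).toMonoidHom = K₂ ∨
        K.map (MulAut.conj g).toMonoidHom = K₃ := by
  refine ⟨Kc 0, Kc 1, Kc 2, ?_, fun ⟨g, h⟩ => not_conj hF (by decide) g h, fun ⟨g, h⟩ => not_conj hF (by decide) g h,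
    fun ⟨g, h⟩ => not_conj hF (by decide) g h, fun K hz he => ?_⟩
  · intro K hK
    simp only [List.mem_cons, List.not_mem_nil, or_false] at hK
    rcases hK with rfl | rfl | rfl <;> exact cover_Kc hF _
  · obtain ⟨g, a, ha⟩ := exists_conj hF hz he
    refine ⟨g, ?_⟩
    rcases (by decide : ∀ a : ZMod 3, a = 0 ∨ a = 1 ∨ a = 2) a with rfl | rfl | rfl
    · exact Or.inl ha
    · exact Or.inr (Or.inl ha)
    · exact Or.inr (Or.inr ha)

/-- A triple cover is carried to one by an isomorphism. -/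
theorem cover_map {G H : Type*} [Group G] [Group H] (e : G ≃* H) (K : Subgroup G)
    (hz : Nat.card (Subgroup.center K) = 3) (hq : Nonempty (K ⧸ Subgroup.center K ≃* Cfsg.PSU 4 F 3)) :
    Nat.card (Subgroup.center (K.map e.toMonoidHom)) = 3 ∧
      Nonempty (K.map e.toMonoidHom ⧸ Subgroup.center (K.map e.toMonoidHom) ≃* Cfsg.PSU 4 F 3) := by
  obtain ⟨q⟩ := hq
  let e' : K ≃* K.map e.toMonoidHom := K.equivMapOfInjective e.toMonoidHom e.injective
  refine ⟨(Nat.card_congr (Subgroup.centerCongr e').toEquiv).symm.trans hz, ⟨?_⟩⟩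
  have hmap : (Subgroup.center K).map e'.toMonoidHom = Subgroup.center (K.map e.toMonoidHom) := by
    ext x
    rw [Subgroup.mem_center_iff]
    constructor
    · rintro ⟨z, hz, rfl⟩ y
      obtain ⟨y', rfl⟩ := e'.surjective y
      show e' y' * e' z = e' z * e' y'
      rw [← map_mul, ← map_mul, Subgroup.mem_center_iff.1 hz y']
    · intro hx
      obtain ⟨z, rfl⟩ := e'.surjective x
      exact ⟨z, Subgroup.mem_center_iff.2 fun y => e'.injective (by rw [map_mul, map_mul]; exact hx (e' y)), rfl⟩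
  exact (QuotientGroup.congr _ _ e' hmap).symm.trans q

/-- The classes in any special unitary group of dimension six over four elements. -/
theorem three_classes {E : Type*} [Field E] [Fintype E] (hE : Fintype.card E = 4) (hF : Fintype.card F = 9) :
    ∃ K₁ K₂ K₃ : Subgroup ↥(Cfsg.SU 6 E 2),
    (∀ K ∈ [K₁, K₂, K₃], Nat.card (Subgroup.center K) = 3 ∧ Nonempty (K ⧸ Subgroup.center K ≃* Cfsg.PSU 4 F 3)) ∧
    (¬ ∃ g : ↥(Cfsg.SU 6 E 2), K₁.map (MulAut.conj g).toMonoidHom = K₂) ∧
    (¬ ∃ g : ↥(Cfsg.SU 6 E 2), K₁.map (MulAut.conj g).toMonoidHom = K₃) ∧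
    (¬ ∃ g : ↥(Cfsg.SU 6 E 2), K₂.map (MulAut.conj g).toMonoidHom = K₃) ∧
    ∀ K : Subgroup ↥(Cfsg.SU 6 E 2), Nat.card (Subgroup.center K) = 3 →
      Nonempty (K ⧸ Subgroup.center K ≃* Cfsg.PSU 4 F 3) →
      ∃ g : ↥(Cfsg.SU 6 E 2), K.map (MulAut.conj g).toMonoidHom = K₁ ∨ K.map (MulAut.conj g).toMonoidHom = K₂ ∨
        K.map (MulAut.conj g).toMonoidHom = K₃ := by
  let φ : G6 ≃* ↥(Cfsg.SU 6 E 2) :=
    CfsgLib.Char.Unital.suEquiv 6 2 (FiniteField.ringEquivOfCardEq (Four.card_four.trans hE.symm))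
  have hconj : ∀ (A : Subgroup G6) (g : G6), (A.map φ.toMonoidHom).map (MulAut.conj (φ g)).toMonoidHom =
      (A.map (MulAut.conj g).toMonoidHom).map φ.toMonoidHom := fun A g => by
    rw [Subgroup.map_map, Subgroup.map_map]
    congr 1
    ext x
    simp
  obtain ⟨A, B, C, hall, h1, h2, h3, h4⟩ := three_classes_four (F := F) hF
  have hneg : ∀ X Y : Subgroup G6, (¬ ∃ g : G6, X.map (MulAut.conj g).toMonoidHom = Y) →
      ¬ ∃ g : ↥(Cfsg.SU 6 E 2), (X.map φ.toMonoidHom).map (MulAut.conj g).toMonoidHom = Y.map φ.toMonoidHom := by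
    rintro X Y h ⟨g, hg⟩
    obtain ⟨g, rfl⟩ := φ.surjective g
    rw [hconj] at hg
    exact h ⟨g, Subgroup.map_injective φ.injective hg⟩
  refine ⟨A.map φ.toMonoidHom, B.map φ.toMonoidHom, C.map φ.toMonoidHom, ?_, hneg _ _ h1, hneg _ _ h2, hneg _ _ h3,
    fun K hz hq => ?_⟩
  · intro K hK
    simp only [List.mem_cons, List.not_mem_nil, or_false] at hK
    rcases hK with rfl | rfl | rfl
    · exact cover_map φ A (hall A (by simp)).1 (hall A (by simp)).2
    · exact cover_map φ B (hall B (by simp)).1 (hall B (by simp)).2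
    · exact cover_map φ C (hall C (by simp)).1 (hall C (by simp)).2
  · obtain ⟨hz', hq'⟩ := cover_map φ.symm K hz hq
    have hback : K = (K.map φ.symm.toMonoidHom).map φ.toMonoidHom := by
      rw [Subgroup.map_map]
      ext x
      simp
    obtain ⟨g, hg⟩ := h4 _ hz' hq'
    refine ⟨φ g, ?_⟩
    rw [hback, hconj]
    rcases hg with hg | hg | hg
    · exact Or.inl (by rw [hg])
    · exact Or.inr (Or.inl (by rw [hg]))
    · exact Or.inr (Or.inr (by rw [hg]))

end CfsgLib.Spor.U43Six
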