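import Cfsg.Agent.Lib.Spor.Fi22.U6.Transv
import Cfsg.Agent.Lib.Spor.U43Six.Data

/-!
Matrices over four elements from tables, and products of them checked through the images of the basis.
-/

set_option autoImplicit false
set_option maxRecDepth 100000

namespace CfsgLib.Spor.U43Six

open Matrix CfsgLib.Spor.Fi22.U6

/-- The six by six matrices. -/
abbrev M6 : Type := Matrix (Fin 6) (Fin 6) Four

/-- An element from a code. -/
def ofN : ℕ → Four
  | 0 => .o
  | 1 => .e
  | 2 => .w
  | _ => .u

/-- A vector from a code: two bits to an entry. -/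
def dec (n : ℕ) : V6 := fun i => ofN ((n >>> (2 * i.1)) &&& 3)

/-- A matrix from the codes of its rows. -/
def ofRows (l : List ℕ) : M6 := fun i j => dec (l.getD i.1 0) j

/-- The matrix at a place of a table. -/
def tmat (R : List (List ℕ)) (k : ℕ) : M6 := ofRows (R.getD k [])

/-- The product of the letters of a word. -/
def wordMat (R : List (List ℕ)) (w : List ℕ) : M6 := (w.map (tmat R)).prod

/-- A trajectory of a vector under the letters of a word, the last image first. -/
def trajOK (R : List (List ℕ)) : List ℕ → List ℕ → Bool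
  | [], [_] => true
  | k :: w, c' :: c :: t => decide (tmat R k *ᵥ dec c = dec c') && trajOK R w (c :: t)
  | _, _ => false

theorem traj_spec (R : List (List ℕ)) : ∀ (w t : List ℕ), trajOK R w t = true →
    wordMat R w *ᵥ dec (t.getLastD 0) = dec (t.headD 0)
  | [], [], h => by simp [trajOK] at h
  | [], [c], _ => by simp [wordMat]
  | [], _ :: _ :: _, h => by simp [trajOK] at h
  | _ :: _, [], h => by simp [trajOK] at h
  | _ :: _, [_], h => by simp [trajOK] at h
  | k :: w, c' :: c :: t, h => by
    simp only [trajOK, Bool.and_eq_true, decide_eq_true_eq] at h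
    have ih := traj_spec R w (c :: t) h.2
    rw [show wordMat R (k :: w) = tmat R k * wordMat R w from by simp [wordMat], ← mulVec_mulVec]
    simp only [List.getLastD_cons] at ih ⊢
    rw [ih]
    exact h.1

/-- The six trajectories show that a word has the given matrix. -/
def colsOK (R : List (List ℕ)) (w : List ℕ) (T : List (List ℕ)) (X : M6) : Bool :=
  (List.finRange 6).all fun i =>
    let t := T.getD i.1 []
    trajOK R w t && decide (dec (t.getLastD 0) = Pi.single i 1) && decide (∀ r, dec (t.headD 0) r = X r i)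

theorem cols_spec {R : List (List ℕ)} {w : List ℕ} {T : List (List ℕ)} {X : M6} (h : colsOK R w T X = true) :
    wordMat R w = X := by
  refine Matrix.ext fun r i => ?_
  have hi := List.all_eq_true.1 h i (List.mem_finRange i)
  simp only [Bool.and_eq_true, decide_eq_true_eq] at hi
  obtain ⟨⟨h1, h2⟩, h3⟩ := hi
  have := congrFun (traj_spec R w _ h1) r
  rw [h2, mulVec_single_one, h3 r] at this
  exact this

/-- A unitary matrix of determinant one as an element. -/
def mkG (X : M6) (h : X.det = 1 ∧ Xᵀ * X.map (fun x => x ^ 2) = 1) : G6 :=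
  ⟨⟨X, h.1⟩, fun x y => by
    have e : (fun i => (X *ᵥ y) i ^ 2) = X.map (fun x => x ^ 2) *ᵥ fun i => y i ^ 2 := funext fun i => by
      simp only [mulVec, dotProduct, sq_sum, map_apply, mul_pow]
    show (X *ᵥ x) ⬝ᵥ (fun i => (X *ᵥ y) i ^ 2) = x ⬝ᵥ fun i => y i ^ 2
    rw [e, dotProduct_comm, dotProduct_mulVec, ← mulVec_transpose, mulVec_mulVec, h.2, one_mulVec,
      dotProduct_comm]⟩

theorem mat_mkG (X : M6) (h : X.det = 1 ∧ Xᵀ * X.map (fun x => x ^ 2) = 1) : mat6 (mkG X h) = X := rfl

theorem mat_one : mat6 (1 : G6) = 1 := rfl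

theorem mat_mul (g h : G6) : mat6 (g * h) = mat6 g * mat6 h := rfl

theorem mat_inj {g h : G6} (e : mat6 g = mat6 h) : g = h := Subtype.ext (Subtype.ext e)

theorem mat_inv_of {g : G6} {Y : M6} (h : Y * mat6 g = 1) : mat6 g⁻¹ = Y := by
  calc mat6 g⁻¹ = Y * mat6 g * mat6 g⁻¹ := by rw [h, one_mul]
    _ = Y := by rw [mul_assoc, ← mat_mul, mul_inv_cancel, mat_one, mul_one]

/-- The product of the elements of a word has the matrix of the word. -/
theorem mat_word {R : List (List ℕ)} {L : ℕ → G6} : ∀ (w : List ℕ),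
    (∀ k ∈ w, mat6 (L k) = tmat R k) → mat6 (w.map L).prod = wordMat R w
  | [], _ => rfl
  | k :: w, h => by
    simp only [wordMat, List.map_cons, List.prod_cons, mat_mul]
    rw [h k List.mem_cons_self]
    exact congrArg _ (mat_word w fun j hj => h j (List.mem_cons_of_mem _ hj))

/-- The scalar matrices. -/
def scalarM (c : Four) : M6 := c • (1 : M6)

theorem scalar_det : ∀ c : Four, c ≠ 0 → c ^ 6 = 1 := by decide

theorem four_cube : ∀ c : Four, c ≠ 0 → c * c ^ 2 = 1 := by decide

/-- A scalar as an element. -/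
def scal (c : Four) (hc : c ≠ 0) : G6 :=
  mkG (scalarM c) ⟨by rw [scalarM, det_smul, det_one, mul_one, Fintype.card_fin, scalar_det c hc], by
    have e : (scalarM c).map (fun x => x ^ 2) = scalarM (c ^ 2) := by
      ext i j
      rcases eq_or_ne i j with rfl | h
      · simp [scalarM]
      · simp [scalarM, h]
    rw [e, scalarM, scalarM, transpose_smul, transpose_one, smul_mul_smul_comm, one_mul, four_cube c hc, one_smul]⟩

theorem scal_comm (c : Four) (hc : c ≠ 0) (g : G6) : g * scal c hc = scal c hc * g := by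
  refine mat_inj ?_
  rw [mat_mul, mat_mul, scal, mat_mkG, scalarM, mul_smul_comm, smul_mul_assoc, mul_one, one_mul]

/-- The scalars. -/
def scalars : Subgroup G6 where
  carrier := {g | ∃ c : Four, mat6 g = scalarM c}
  one_mem' := ⟨1, by rw [mat_one, scalarM, one_smul]⟩
  mul_mem' := by
    rintro g h ⟨c, hc⟩ ⟨d, hd⟩
    exact ⟨c * d, by rw [mat_mul, hc, hd, scalarM, scalarM, scalarM, smul_mul_smul_comm, one_mul]⟩
  inv_mem' := by
    rintro g ⟨c, hc⟩
    refine ⟨c⁻¹, mat_inv_of ?_⟩
    have hc0 : c ≠ 0 := by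
      rintro rfl
      have h1 := congrArg Matrix.det hc
      rw [scalarM, zero_smul, det_zero, g.1.2] at h1
      exact one_ne_zero h1
    rw [hc, scalarM, scalarM, smul_mul_smul_comm, one_mul, inv_mul_cancel₀ hc0, one_smul]

theorem scal_mem (c : Four) (hc : c ≠ 0) : scal c hc ∈ scalars := ⟨c, rfl⟩

theorem mem_scalars {g : G6} : g ∈ scalars ↔ ∃ c : Four, mat6 g = scalarM c := Iff.rfl

theorem scalars_comm {z : G6} (hz : z ∈ scalars) (g : G6) : g * z = z * g := by
  obtain ⟨c, hc⟩ := hz
  refine mat_inj ?_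
  rw [mat_mul, mat_mul, hc, scalarM, mul_smul_comm, smul_mul_assoc, mul_one, one_mul]

theorem card_scalars : Nat.card scalars = 3 := by
  have h : ∀ c : {c : Four // c ≠ 0}, scal c.1 c.2 ∈ scalars := fun c => scal_mem _ _
  rw [← Nat.card_congr (Equiv.ofBijective (fun c => (⟨scal c.1 c.2, h c⟩ : scalars)) ⟨fun c d e => ?_, fun z => ?_⟩)]
  · rw [Nat.card_eq_fintype_card]
    decide
  · have e1 : scalarM c.1 = scalarM d.1 := congrArg (fun z : scalars => mat6 z.1) e
    exact Subtype.ext (by simpa [scalarM] using congrFun (congrFun e1 0) 0)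
  · obtain ⟨c, hc⟩ := z.2
    have hc0 : c ≠ 0 := by
      rintro rfl
      have h1 := congrArg Matrix.det hc
      rw [scalarM, zero_smul, det_zero, z.1.1.2] at h1
      exact one_ne_zero h1
    exact ⟨⟨c, hc0⟩, Subtype.ext (mat_inj (show scalarM c = _ from hc.symm))⟩

end CfsgLib.Spor.U43Six
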