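import Cfsg.Agent.Lib.Spor.U43Six.Mat
import Cfsg.Agent.Lib.Lie.MultExc.UFourThree.Group

/-!
The generated triple cover: its action on 126 isotropic points and its map onto the tabulated group of degree 540.
-/

set_option autoImplicit false
set_option maxRecDepth 100000
set_option exponentiation.threshold 1000

namespace CfsgLib.Spor.U43Six

open Matrix CfsgLib.Spor.Fi22.U6 CfsgLib.Spor.PermCert

local notation "tab540" => CfsgLib.Lie.MultExc.UFourThree.tab

theorem ab_det : ∀ k < 4, (tmat Data.abRows k).det = 1 := by decide +kernel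

theorem ab_unit : ∀ k < 4, (tmat Data.abRows k)ᵀ * (tmat Data.abRows k).map (fun x => x ^ 2) = 1 := by
  decide +kernel

/-- The two generators and their inverses. -/
def gab (k : Fin 4) : G6 := mkG (tmat Data.abRows k.1) ⟨ab_det k.1 k.2, ab_unit k.1 k.2⟩

/-- The generated group. -/
def K1 : Subgroup G6 := Subgroup.closure {gab 0, gab 1}

theorem ab_inv : tmat Data.abRows 2 * tmat Data.abRows 0 = 1 ∧ tmat Data.abRows 3 * tmat Data.abRows 1 = 1 := by
  decide +kernel

theorem gab_mem : ∀ k, gab k ∈ K1 := by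
  intro k
  have h0 : gab 0 ∈ K1 := Subgroup.subset_closure (Or.inl rfl)
  have h1 : gab 1 ∈ K1 := Subgroup.subset_closure (Or.inr rfl)
  fin_cases k
  · exact h0
  · exact h1
  · have : gab 2 = (gab 0)⁻¹ := mat_inj (mat_inv_of (g := gab 0) ab_inv.1).symm
    show gab 2 ∈ K1
    exact this ▸ inv_mem h0
  · have : gab 3 = (gab 1)⁻¹ := mat_inj (mat_inv_of (g := gab 1) ab_inv.2).symm
    show gab 3 ∈ K1
    exact this ▸ inv_mem h1

/-- A word in the generators and their inverses. -/
theorem word_mem {w : List ℕ} (hw : ∀ k ∈ w, k < 4) : ∃ g ∈ K1, mat6 g = wordMat Data.abRows w := by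
  let L : ℕ → G6 := fun k => gab ⟨k % 4, Nat.mod_lt _ (by norm_num)⟩
  refine ⟨(w.map L).prod, Subgroup.list_prod_mem _ fun x hx => ?_, mat_word w fun k hk => ?_⟩
  · obtain ⟨k, -, rfl⟩ := List.mem_map.1 hx
    exact gab_mem _
  · show tmat Data.abRows (k % 4) = _
    rw [Nat.mod_eq_of_lt (hw k hk)]

/-! ### The points -/

/-- A point of the orbit. -/
def pv (i : Fin 126) : V6 := dec (Data.pts.getD i.1 0)

/-- The first nonzero entry. -/
def lead (v : V6) : Four :=
  if v 0 ≠ 0 then v 0 else if v 1 ≠ 0 then v 1 else if v 2 ≠ 0 then v 2 else if v 3 ≠ 0 then v 3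
    else if v 4 ≠ 0 then v 4 else v 5

theorem lead_smul (c : Four) (hc : c ≠ 0) (v : V6) : lead (c • v) = c * lead v := by
  simp only [lead, Pi.smul_apply, smul_eq_mul, ne_eq, mul_eq_zero, hc, false_or]
  split_ifs <;> rfl

/-- The code of an element. -/
def toN : Four → ℕ
  | .o => 0
  | .e => 1
  | .w => 2
  | .u => 3

/-- The code of a vector. -/
def enc (v : V6) : ℕ :=
  toN (v 0) + 4 * (toN (v 1) + 4 * (toN (v 2) + 4 * (toN (v 3) + 4 * (toN (v 4) + 4 * toN (v 5)))))

theorem pts_ok : (∀ i : Fin 126, lead (pv i) = 1 ∧ enc (pv i) = Data.pts.getD i.1 0) ∧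
    Data.pts.length = 126 ∧ Data.pts.Nodup := by decide +kernel

/-- An element sends a point to a point. -/
def Maps (g : G6) (i j : Fin 126) : Prop := ∃ c : Four, c ≠ 0 ∧ mat6 g *ᵥ pv i = c • pv j

theorem pv_smul_eq {c : Four} (hc : c ≠ 0) {i j : Fin 126} (h : c • pv i = pv j) : i = j := by
  have h1 := congrArg lead h
  rw [lead_smul c hc, (pts_ok.1 i).1, (pts_ok.1 j).1, mul_one] at h1
  rw [h1, one_smul] at h
  have h2 := congrArg enc h
  rw [(pts_ok.1 i).2, (pts_ok.1 j).2] at h2
  have hl := pts_ok.2.1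
  rw [List.getD_eq_getElem _ _ (by rw [hl]; exact i.2), List.getD_eq_getElem _ _ (by rw [hl]; exact j.2),
    pts_ok.2.2.getElem_inj_iff] at h2
  exact Fin.ext h2

theorem Maps.unique {g : G6} {i j j' : Fin 126} (h : Maps g i j) (h' : Maps g i j') : j = j' := by
  obtain ⟨c, hc, e⟩ := h
  obtain ⟨d, hd, e'⟩ := h'
  rw [e] at e'
  exact pv_smul_eq (mul_ne_zero (inv_ne_zero hd) hc) (by rw [mul_smul, e', inv_smul_smul₀ hd])

theorem maps_one (i : Fin 126) : Maps 1 i i := ⟨1, one_ne_zero, by rw [mat_one, one_mulVec, one_smul]⟩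

theorem Maps.mul {g h : G6} {i j k : Fin 126} (h1 : Maps h i j) (h2 : Maps g j k) : Maps (g * h) i k := by
  obtain ⟨c, hc, e⟩ := h1
  obtain ⟨d, hd, e'⟩ := h2
  exact ⟨c * d, mul_ne_zero hc hd, by rw [mat_mul, ← mulVec_mulVec, e, mulVec_smul, e', smul_smul]⟩

/-- An entry of a packed permutation of the points. -/
def lk (p i : ℕ) : ℕ := (p >>> (7 * i)) &&& 127

theorem gens_ok : ∀ s < 2, ∀ i : Fin 126, lk (Data.perms.getD s 0) i.1 < 126 ∧
    ∃ c : Four, c ≠ 0 ∧ tmat Data.abRows s *ᵥ pv i = c • dec (Data.pts.getD (lk (Data.perms.getD s 0) i.1) 0) := by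
  decide +kernel

theorem gen_maps (s : Fin 2) (i : Fin 126) : ∃ j : Fin 126, j.1 = lk (Data.perms.getD s.1 0) i.1 ∧
    Maps (gab ⟨s.1, by omega⟩) i j :=
  ⟨⟨_, (gens_ok s.1 s.2 i).1⟩, rfl, (gens_ok s.1 s.2 i).2⟩

theorem maps_exists {g : G6} (hg : g ∈ K1) : ∀ i, ∃ j, Maps g i j := by
  induction hg using Subgroup.closure_induction with
  | mem x hx =>
    intro i
    rcases hx with rfl | rfl
    · obtain ⟨j, -, hj⟩ := gen_maps 0 i
      exact ⟨j, hj⟩
    · obtain ⟨j, -, hj⟩ := gen_maps 1 i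
      exact ⟨j, hj⟩
  | one => exact fun i => ⟨i, maps_one i⟩
  | mul x y _ _ ix iy =>
    intro i
    obtain ⟨j, hj⟩ := iy i
    obtain ⟨k, hk⟩ := ix j
    exact ⟨k, hj.mul hk⟩
  | inv x _ ix =>
    have hp : ∀ n : ℕ, ∀ i, ∃ j, Maps (x ^ n) i j := by
      intro n
      induction n with
      | zero => exact fun i => ⟨i, by rw [pow_zero]; exact maps_one i⟩
      | succ n ihn =>
        intro i
        obtain ⟨j, hj⟩ := ix i
        obtain ⟨k, hk⟩ := ihn j
        exact ⟨k, by rw [pow_succ]; exact hj.mul hk⟩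
    rw [show x⁻¹ = x ^ (orderOf x - 1) from inv_eq_of_mul_eq_one_right (by
      rw [← pow_succ', Nat.sub_add_cancel (orderOf_pos x), pow_orderOf_eq_one])]
    exact hp _

/-- The image of a point. -/
noncomputable def im (g : K1) (i : Fin 126) : Fin 126 := Classical.choose (maps_exists g.2 i)

theorem im_spec (g : K1) (i : Fin 126) : Maps g.1 i (im g i) := Classical.choose_spec (maps_exists g.2 i)

theorem im_mul (g h : K1) (i : Fin 126) : im (g * h) i = im g (im h i) :=
  (im_spec (g * h) i).unique ((im_spec h i).mul (im_spec g _))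

theorem im_one (i : Fin 126) : im 1 i = i := (im_spec 1 i).unique (maps_one i)

/-- The action on the points. -/
noncomputable def rho : K1 →* Equiv.Perm (Fin 126) where
  toFun g :=
    { toFun := im g
      invFun := im g⁻¹
      left_inv := fun i => by rw [← im_mul, inv_mul_cancel, im_one]
      right_inv := fun i => by rw [← im_mul, mul_inv_cancel, im_one] }
  map_one' := Equiv.ext im_one
  map_mul' g h := Equiv.ext fun i => im_mul g h i

/-! ### The family of 540 involutions -/

/-- The involution at an index, as a map. -/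
def tauN (i x : ℕ) : ℕ := lk (Data.taus.getD i 0) x

/-- The checks on one involution. -/
def tauOK (t : ℕ) : Bool :=
  Nat.blt t (2 ^ 882) && (List.range 126).all fun x => Nat.blt (lk t x) 126 && Nat.beq (lk t (lk t x)) x

theorem taus_ok : Data.taus.length = 540 ∧ Data.taus.Nodup ∧ Data.taus.all tauOK = true := by decide +kernel

theorem tau_facts (i : Fin 540) : Data.taus.getD i.1 0 < 2 ^ 882 ∧
    ∀ x < 126, tauN i.1 x < 126 ∧ tauN i.1 (tauN i.1 x) = x := by
  obtain ⟨hl, -, hall⟩ := taus_ok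
  have hi : i.1 < Data.taus.length := by rw [hl]; exact i.2
  have h := List.all_eq_true.1 hall _ (List.getElem_mem hi)
  simp only [tauOK, Bool.and_eq_true, List.all_eq_true, List.mem_range] at h
  simp only [tauN, List.getD_eq_getElem _ _ hi]
  refine ⟨Nat.le_of_ble_eq_true h.1, fun x hx => ?_⟩
  exact ⟨Nat.le_of_ble_eq_true (h.2 x hx).1, Nat.eq_of_beq_eq_true (h.2 x hx).2⟩

/-- The involution at an index. -/
def tau (i : Fin 540) : Equiv.Perm (Fin 126) :=
  Function.Involutive.toPerm (fun x => ⟨tauN i.1 x.1, ((tau_facts i).2 x.1 x.2).1⟩)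
    fun x => Fin.ext ((tau_facts i).2 x.1 x.2).2

theorem tau_inj {i j : Fin 540} (h : tau i = tau j) : i = j := by
  obtain ⟨hl, hnd, -⟩ := taus_ok
  have e : Data.taus.getD i.1 0 = Data.taus.getD j.1 0 := Nat.eq_of_testBit_eq fun b => by
    by_cases hb : b < 882
    · have h0 := congrArg Fin.val (DFunLike.congr_fun h (⟨b / 7, by omega⟩ : Fin 126))
      have h1 : lk (Data.taus.getD i.1 0) (b / 7) = lk (Data.taus.getD j.1 0) (b / 7) := h0
      have h2 := congrArg (fun v => Nat.testBit v (b % 7)) h1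
      simp only [lk, Nat.testBit_and, Nat.testBit_shiftRight, show (127 : ℕ) = 2 ^ 7 - 1 from rfl,
        Nat.testBit_two_pow_sub_one, show b % 7 < 7 from Nat.mod_lt _ (by norm_num), decide_true,
        Bool.and_true, Nat.div_add_mod] at h2
      exact h2
    · rw [Nat.testBit_lt_two_pow ((tau_facts i).1.trans_le (Nat.pow_le_pow_right (by norm_num) (by omega))),
        Nat.testBit_lt_two_pow ((tau_facts j).1.trans_le (Nat.pow_le_pow_right (by norm_num) (by omega)))]
  rw [List.getD_eq_getElem _ _ (by rw [hl]; exact i.2), List.getD_eq_getElem _ _ (by rw [hl]; exact j.2),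
    hnd.getElem_inj_iff] at e
  exact Fin.ext e

/-- The two generators move the involutions as the tabulated generators move the 540 points. -/
def famOK (s : ℕ) : Bool :=
  let p := Data.perms.getD s 0
  (List.range 540).all fun i =>
    let j := CfsgLib.Spor.PermCert.look (tab540).w (tab540).R s i
    let t := Data.taus.getD i 0
    let t' := Data.taus.getD j 0
    Nat.blt j 540 && (List.range 126).all fun x => Nat.beq (lk p (lk t x)) (lk t' (lk p x))

theorem fam0_ok : famOK 0 = true := by decide +kernel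

theorem fam1_ok : famOK 1 = true := by decide +kernel

theorem gen_conj (s : Fin 2) (i : Fin 540) : ∃ j : Fin 540,
    j.1 = CfsgLib.Spor.PermCert.look (tab540).w (tab540).R s.1 i.1 ∧
      rho ⟨_, gab_mem ⟨s.1, by omega⟩⟩ * tau i = tau j * rho ⟨_, gab_mem ⟨s.1, by omega⟩⟩ := by
  have h : famOK s.1 = true := by
    fin_cases s
    exacts [fam0_ok, fam1_ok]
  simp only [famOK, List.all_eq_true, List.mem_range, Bool.and_eq_true] at h
  obtain ⟨hj, hx⟩ := h i.1 i.2
  refine ⟨⟨_, Nat.le_of_ble_eq_true hj⟩, rfl, Equiv.ext fun x => Fin.ext ?_⟩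
  have hp : ∀ y : Fin 126, (rho ⟨_, gab_mem ⟨s.1, by omega⟩⟩ y).1 = lk (Data.perms.getD s.1 0) y.1 := fun y => by
    obtain ⟨k, hk, hm⟩ := gen_maps s y
    rw [← hk]
    exact congrArg Fin.val ((im_spec ⟨_, gab_mem _⟩ y).unique hm)
  rw [Equiv.Perm.mul_apply, Equiv.Perm.mul_apply, hp]
  show lk _ (tauN i.1 x.1) = tauN _ (rho _ x).1
  rw [hp]
  exact Nat.eq_of_beq_eq_true (hx x.1 x.2)

theorem conj_exists (g : K1) : ∀ i, ∃ j, rho g * tau i = tau j * rho g := by
  let S : Set (Equiv.Perm (Fin 126)) := Set.range tau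
  let N : Subgroup K1 := Subgroup.comap rho (Subgroup.normalizer S)
  have key : ∀ s : Fin 2, (⟨_, gab_mem ⟨s.1, by omega⟩⟩ : K1) ∈ N := fun s => by
    refine Subgroup.mem_normalizer_fintype ?_
    rintro _ ⟨i, rfl⟩
    obtain ⟨j, -, hj⟩ := gen_conj s i
    exact ⟨j, by rw [hj, mul_inv_cancel_right]⟩
  have hN : g ∈ N := by
    have hle : K1 ≤ N.map K1.subtype := by
      refine (Subgroup.closure_le _).2 ?_
      rintro y (rfl | rfl)
      · exact ⟨_, key 0, rfl⟩
      · exact ⟨_, key 1, rfl⟩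
    obtain ⟨y, hy, hyg⟩ := hle g.2
    rwa [← Subtype.coe_injective hyg]
  intro i
  have hg : rho g ∈ Subgroup.normalizer S := hN
  obtain ⟨j, hj⟩ := (Subgroup.mem_set_normalizer_iff.1 hg (tau i)).1 ⟨i, rfl⟩
  exact ⟨j, by rw [hj, inv_mul_cancel_right]⟩

/-- The image of an index. -/
noncomputable def ix (g : K1) (i : Fin 540) : Fin 540 := Classical.choose (conj_exists g i)

theorem ix_spec (g : K1) (i : Fin 540) : rho g * tau i = tau (ix g i) * rho g :=
  Classical.choose_spec (conj_exists g i)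

theorem ix_eq {g : K1} {i j : Fin 540} (h : rho g * tau i = tau j * rho g) : ix g i = j :=
  tau_inj (mul_right_cancel ((ix_spec g i).symm.trans h))

theorem ix_mul (g h : K1) (i : Fin 540) : ix (g * h) i = ix g (ix h i) :=
  ix_eq (by rw [map_mul, mul_assoc, ix_spec h, ← mul_assoc, ix_spec g, mul_assoc])

theorem ix_one (i : Fin 540) : ix 1 i = i := ix_eq (by rw [map_one, one_mul, mul_one])

/-- The action on the family. -/
noncomputable def psi : K1 →* Equiv.Perm (Fin 540) where
  toFun g :=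
    { toFun := ix g
      invFun := ix g⁻¹
      left_inv := fun i => by rw [← ix_mul, inv_mul_cancel, ix_one]
      right_inv := fun i => by rw [← ix_mul, mul_inv_cancel, ix_one] }
  map_one' := Equiv.ext ix_one
  map_mul' g h := Equiv.ext fun i => ix_mul g h i

/-- The check of the products fixing the first point. -/
def loopsOK : Bool :=
  (Data.loops.all fun e => Nat.blt e.1 540 && Nat.blt e.2.1 540 && Nat.blt e.2.2 540 &&
    Nat.beq (tauN e.1 (tauN e.2.1 (tauN e.2.2 0))) 0) &&
  (List.range 126).all fun x => Nat.beq x 0 ||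
    Data.loops.any fun e => !Nat.beq (tauN e.1 (tauN e.2.1 (tauN e.2.2 x))) x

theorem loops_ok : loopsOK = true := by decide +kernel

theorem tree_ok : ∀ i : Fin 126, i.1 = 0 ∨ ((Data.parent.getD i.1 (0, 0)).1 < 126 ∧
    (Data.parent.getD i.1 (0, 0)).2 < 540 ∧
    Data.depth.getD (Data.parent.getD i.1 (0, 0)).1 0 < Data.depth.getD i.1 0 ∧
    tauN (Data.parent.getD i.1 (0, 0)).2 (Data.parent.getD i.1 (0, 0)).1 = i.1) := by decide +kernel

theorem rho_eq_one {g : K1} (h : psi g = 1) : rho g = 1 := by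
  have hc : ∀ i x, rho g (tau i x) = tau i (rho g x) := fun i x => by
    have h1 := DFunLike.congr_fun (ix_spec g i) x
    rwa [show ix g i = i from DFunLike.congr_fun h i] at h1
  have h0 : rho g ⟨0, by norm_num⟩ = ⟨0, by norm_num⟩ := by
    by_contra hne
    have hl := loops_ok
    simp only [loopsOK, Bool.and_eq_true, List.all_eq_true, List.mem_range, Bool.or_eq_true, List.any_eq_true,
      Bool.not_eq_true'] at hl
    rcases hl.2 _ (rho g ⟨0, by norm_num⟩).2 with h2 | ⟨e, he, h2⟩
    · exact hne (Fin.ext (Nat.eq_of_beq_eq_true h2))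
    obtain ⟨⟨⟨ha, hb⟩, hc'⟩, hfix⟩ := hl.1 e he
    have key := congrArg Fin.val ((congrArg (rho g) (show tau ⟨e.1, Nat.le_of_ble_eq_true ha⟩
      (tau ⟨e.2.1, Nat.le_of_ble_eq_true hb⟩ (tau ⟨e.2.2, Nat.le_of_ble_eq_true hc'⟩ ⟨0, by norm_num⟩)) =
        ⟨0, by norm_num⟩ from Fin.ext (Nat.eq_of_beq_eq_true hfix))).symm)
    rw [hc, hc, hc] at key
    exact absurd key.symm (Nat.ne_of_beq_eq_false h2)
  have hall : ∀ n, ∀ i : Fin 126, Data.depth.getD i.1 0 ≤ n → rho g i = i := by
    intro n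
    induction n with
    | zero =>
      intro i hi
      rcases tree_ok i with h | ⟨-, -, h, -⟩
      · rw [show i = ⟨0, by norm_num⟩ from Fin.ext h]; exact h0
      · omega
    | succ n ih =>
      intro i hi
      rcases tree_ok i with h | ⟨hp, hk, h, ht⟩
      · rw [show i = ⟨0, by norm_num⟩ from Fin.ext h]; exact h0
      · have e : i = tau ⟨_, hk⟩ ⟨_, hp⟩ := Fin.ext ht.symm
        rw [e, hc, ih ⟨_, hp⟩ (show Data.depth.getD (Data.parent.getD i.1 (0, 0)).1 0 ≤ n by omega)]
  exact Equiv.ext fun i => hall _ i le_rfl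

/-- The matrix of six of the seven points. -/
def frameU : M6 := fun r k => dec (Data.pts.getD (Data.frame.getD k.1 0) 0) r

theorem frame_ok : (∀ k : Fin 7, Data.frame.getD k.1 0 < 126) ∧ ofRows Data.frameInv * frameU = 1 ∧
    frameU * ofRows Data.frameInv = 1 ∧
    ∀ r, (ofRows Data.frameInv *ᵥ dec (Data.pts.getD (Data.frame.getD 6 0) 0)) r ≠ 0 := by decide +kernel

theorem scalar_of_rho {g : K1} (h : rho g = 1) : g.1 ∈ scalars := by
  obtain ⟨hlt, hVU, hUV, hne⟩ := frame_ok
  have hfix : ∀ i : Fin 126, ∃ c : Four, mat6 g.1 *ᵥ pv i = c • pv i := fun i => by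
    obtain ⟨c, -, hc⟩ := im_spec g i
    rw [show im g i = i from DFunLike.congr_fun h i] at hc
    exact ⟨c, hc⟩
  choose c hc using hfix
  let d : Fin 6 → Four := fun k => c ⟨_, hlt k.castSucc⟩
  let c7 := c ⟨_, hlt 6⟩
  have h1 : mat6 g.1 * frameU = frameU * diagonal d := by
    ext r k
    rw [mul_diagonal]
    show (mat6 g.1 *ᵥ pv ⟨_, hlt k.castSucc⟩) r = _
    rw [hc, Pi.smul_apply, smul_eq_mul, mul_comm]
    rfl
  have h2 : mat6 g.1 = frameU * diagonal d * ofRows Data.frameInv := by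
    rw [← h1, mul_assoc, hUV, mul_one]
  set a := ofRows Data.frameInv *ᵥ dec (Data.pts.getD (Data.frame.getD 6 0) 0) with ha
  have h3 : diagonal d *ᵥ a = c7 • a := by
    have e := hc ⟨_, hlt 6⟩
    have e2 := congrArg (fun v => ofRows Data.frameInv *ᵥ v) e
    simp only [mulVec_smul] at e2
    rw [h2, mulVec_mulVec, ← mul_assoc, ← mul_assoc, hVU, one_mul, ← mulVec_mulVec] at e2
    exact e2
  refine ⟨c7, ?_⟩
  have hd : d = fun _ => c7 := funext fun r => by
    have := congrFun h3 r
    rw [mulVec_diagonal, Pi.smul_apply, smul_eq_mul] at this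
    exact mul_right_cancel₀ (hne r) this
  rw [h2, hd, show diagonal (fun _ : Fin 6 => c7) = c7 • (1 : M6) by rw [smul_one_eq_diagonal],
    mul_smul_comm, mul_one, smul_mul_assoc, hUV]
  rfl

theorem scalar_word_ok : colsOK Data.abRows (List.replicate 5 0) Data.scalarTraj (scalarM .u) = true := by
  decide +kernel

theorem scalars_le : scalars ≤ K1 := by
  obtain ⟨g, hg, hm⟩ := word_mem (w := List.replicate 5 0) (by simp)
  rw [cols_spec scalar_word_ok] at hm
  rintro z ⟨c, hc⟩
  have hc0 : c ≠ 0 := by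
    rintro rfl
    have h1 := congrArg Matrix.det hc
    rw [scalarM, zero_smul, det_zero, z.1.2] at h1
    exact one_ne_zero h1
  have hcase : ∀ c : Four, c ≠ 0 → c = .u ^ 0 ∨ c = .u ^ 1 ∨ c = .u ^ 2 := by decide
  have hpow : ∀ n, mat6 (g ^ n) = scalarM (Four.u ^ n) := fun n => by
    induction n with
    | zero => rw [pow_zero, pow_zero, mat_one, scalarM, one_smul]
    | succ n ih => rw [pow_succ, pow_succ, mat_mul, ih, hm, scalarM, scalarM, scalarM, smul_mul_smul_comm, one_mul]
  rcases hcase c hc0 with h | h | h <;>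
  · subst h
    rw [mat_inj (hc.trans (hpow _).symm)]
    exact pow_mem hg _

theorem psi_ker : psi.ker = scalars.subgroupOf K1 := by
  ext g
  refine ⟨fun h => scalar_of_rho (rho_eq_one h), fun h => ?_⟩
  obtain ⟨c, hc⟩ := Subgroup.mem_subgroupOf.1 h
  have hc0 : c ≠ 0 := by
    rintro rfl
    have h1 := congrArg Matrix.det hc
    rw [scalarM, zero_smul, det_zero, g.1.1.2] at h1
    exact one_ne_zero h1
  have hr : rho g = 1 := Equiv.ext fun i => (im_spec g i).unique
    ⟨c, hc0, by rw [hc, scalarM, smul_mulVec, one_mulVec, Equiv.Perm.one_apply]⟩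
  exact Equiv.ext fun i => ix_eq (by rw [hr, one_mul, mul_one, Equiv.Perm.one_apply])

universe u

/-- The map onto the projective special unitary group in dimension four over nine elements. -/
theorem exists_onto {F : Type u} [Field F] [Fintype F] (hF : Fintype.card F = 9) :
    ∃ f : K1 →* Cfsg.PSU 4 F 3, Function.Surjective f ∧ f.ker = scalars.subgroupOf K1 := by
  obtain ⟨H, M, ⟨e⟩⟩ := CfsgLib.Lie.MultExc.UFourThree.exists_model_u43 hF
  obtain ⟨σ, hσ, hH⟩ := M.gens
  have hn : (tab540).ngen = 2 := rfl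
  have hgen : ∀ s : Fin 2, psi ⟨_, gab_mem ⟨s.1, by omega⟩⟩ = σ s.1 := fun s => by
    refine Matches.unique (w := (tab540).w) (R := (tab540).R) (k := s.1) (fun i => ?_) (hσ s.1 (by rw [hn]; exact s.2))
    obtain ⟨j, hj, hc⟩ := gen_conj s i
    show (ix _ i).1 = _
    rw [ix_eq hc, hj]
  have hrange : psi.range = H := by
    have htop : Subgroup.closure (Subtype.val ⁻¹' ({gab 0, gab 1} : Set G6) : Set K1) = ⊤ :=
      Subgroup.closure_closure_coe_preimage
    rw [MonoidHom.range_eq_map, ← htop, MonoidHom.map_closure, ← hH]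
    congr 1
    ext p
    constructor
    · rintro ⟨⟨x, hx⟩, hx', rfl⟩
      rcases hx' with (rfl : x = gab 0) | (rfl : x = gab 1)
      · exact ⟨0, (by rw [hn]; decide : 0 < (tab540).ngen), (hgen 0).symm⟩
      · exact ⟨1, (by rw [hn]; decide : 1 < (tab540).ngen), (hgen 1).symm⟩
    · rintro ⟨s, hs, rfl⟩
      have hs2 : s < 2 := hs
      interval_cases s
      · exact ⟨⟨_, gab_mem 0⟩, Or.inl rfl, hgen 0⟩
      · exact ⟨⟨_, gab_mem 1⟩, Or.inr rfl, hgen 1⟩
  let f0 : K1 →* ↥H := psi.codRestrict H fun x => by rw [← hrange]; exact ⟨x, rfl⟩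
  have hsurj : Function.Surjective f0 := fun y => by
    obtain ⟨x, hx⟩ : y.1 ∈ psi.range := hrange.symm ▸ y.2
    exact ⟨x, Subtype.ext hx⟩
  refine ⟨e.toMonoidHom.comp f0, e.surjective.comp hsurj, ?_⟩
  rw [← psi_ker]
  ext x
  simp [f0, MonoidHom.mem_ker, Subtype.ext_iff]

end CfsgLib.Spor.U43Six
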