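import Cfsg.Agent.Lib.Spor.U43Six.Mat
import Mathlib.GroupTheory.Perm.Sign
import Mathlib.GroupTheory.SpecificGroups.Alternating

/-!
Monomial unitary matrices: the subgroup of the orthonormal frame, its diagonal group and its Sylow subgroup at three.
-/

set_option autoImplicit false
set_option maxRecDepth 100000

namespace CfsgLib.Spor.U43Six

open Matrix CfsgLib.Spor.Fi22.U6 Equiv

/-- A cube root of one from an exponent. -/
def wp (a : ZMod 3) : Four := if a = 0 then .e else if a = 1 then .w else .u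

theorem wp_add : ∀ a b : ZMod 3, wp (a + b) = wp a * wp b := by decide

theorem wp_ne : ∀ a : ZMod 3, wp a ≠ 0 := by decide

theorem wp_inj : ∀ a b : ZMod 3, wp a = wp b → a = b := by decide

theorem exists_wp : ∀ c : Four, c ≠ 0 → ∃ a, wp a = c := by decide

theorem wp_norm : ∀ a : ZMod 3, wp a * wp a ^ 2 = 1 := by decide

theorem wp_eq_one : ∀ a : ZMod 3, wp a = 1 → a = 0 := by decide

/-- Exponents of the six coordinates. -/
abbrev E6 : Type := Fin 6 → ZMod 3

/-- The monomial matrix sending a basis vector to a multiple of another. -/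
def mon (π : Perm (Fin 6)) (e : E6) : M6 := fun r c => if r = π c then wp (e c) else 0

theorem mon_mul (π π' : Perm (Fin 6)) (e e' : E6) :
    mon π e * mon π' e' = mon (π * π') (fun c => e (π' c) + e' c) := by
  ext r c
  rw [Matrix.mul_apply, Finset.sum_eq_single (π' c)]
  · by_cases h : r = π (π' c)
    · simp [mon, h, wp_add]
    · simp [mon, h]
  · intro j _ hj
    simp [mon, hj]
  · simp

theorem mon_one : mon 1 0 = 1 := by
  ext r c
  rcases eq_or_ne r c with rfl | h
  · simp [mon, wp]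
    rfl
  · simp [mon, h, Matrix.one_apply]

theorem mon_inj {π π' : Perm (Fin 6)} {e e' : E6} (h : mon π e = mon π' e') : π = π' ∧ e = e' := by
  have h1 : ∀ c, π c = π' c := fun c => by
    have := congrFun (congrFun h (π c)) c
    by_contra hne
    simp [mon, hne] at this
    exact wp_ne _ this
  refine ⟨Equiv.ext h1, funext fun c => ?_⟩
  have := congrFun (congrFun h (π c)) c
  simp [mon, h1 c] at this
  exact wp_inj _ _ this

theorem mon_mulVec (π : Perm (Fin 6)) (e : E6) (v : V6) (r : Fin 6) :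
    (mon π e *ᵥ v) r = wp (e (π⁻¹ r)) * v (π⁻¹ r) := by
  rw [mulVec, dotProduct, Finset.sum_eq_single (π⁻¹ r)]
  · simp [mon]
  · intro j _ hj
    have : r ≠ π j := fun hr => hj (by simp [hr])
    simp [mon, this]
  · simp

theorem mon_unitary (π : Perm (Fin 6)) (e : E6) : (mon π e)ᵀ * (mon π e).map (fun x => x ^ 2) = 1 := by
  ext i j
  rw [Matrix.mul_apply, Finset.sum_eq_single (π i)]
  · rcases eq_or_ne i j with rfl | h
    · simp [mon, wp_norm]
    · simp [mon, h]
  · intro r _ hr
    simp [mon, hr]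
  · simp

theorem wp_sum (s : Finset (Fin 6)) (e : E6) : wp (∑ c ∈ s, e c) = ∏ c ∈ s, wp (e c) := by
  induction s using Finset.cons_induction with
  | empty => rfl
  | cons a s ha ih => rw [Finset.sum_cons, Finset.prod_cons, wp_add, ih]

theorem sign_cast (π : Perm (Fin 6)) : ((Perm.sign π : ℤ) : Four) = 1 := by
  rcases Int.units_eq_one_or (Perm.sign π) with h | h <;> rw [h]
  · simp
  · rw [Units.val_neg, Units.val_one, Int.cast_neg, Int.cast_one]
    rfl

theorem mon_det (π : Perm (Fin 6)) (e : E6) : (mon π e).det = wp (∑ c, e c) := by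
  have h : mon π e = (diagonal fun c => wp (e c)).submatrix ⇑π⁻¹ id := by
    ext r c
    by_cases h : r = π c
    · simp [mon, h]
    · have : π.symm r ≠ c := fun hc => h (by rw [← hc]; simp)
      simp [mon, h, this]
  rw [h, det_permute, det_diagonal, sign_cast, one_mul, wp_sum]

/-- A monomial element. -/
def mo (π : Perm (Fin 6)) (e : E6) (h : ∑ c, e c = 0) : G6 :=
  mkG (mon π e) ⟨by rw [mon_det, h]; rfl, mon_unitary π e⟩

theorem mat_mo (π : Perm (Fin 6)) (e : E6) (h : ∑ c, e c = 0) : mat6 (mo π e h) = mon π e := rfl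

/-- The monomial elements whose permutation lies in a group. -/
def monSub (X : Subgroup (Perm (Fin 6))) : Subgroup G6 where
  carrier := {g | ∃ π ∈ X, ∃ e, mat6 g = mon π e}
  one_mem' := ⟨1, X.one_mem, 0, by rw [mat_one, mon_one]⟩
  mul_mem' := by
    rintro g h ⟨π, hπ, e, hg⟩ ⟨π', hπ', e', hh⟩
    exact ⟨_, X.mul_mem hπ hπ', _, by rw [mat_mul, hg, hh, mon_mul]⟩
  inv_mem' := by
    rintro g ⟨π, hπ, e, hg⟩
    refine ⟨π⁻¹, X.inv_mem hπ, fun c => -e (π⁻¹ c), mat_inv_of ?_⟩
    rw [hg, mon_mul, inv_mul_cancel, ← mon_one]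
    exact congrArg _ (funext fun c => by simp)

theorem monSub_mono {X Y : Subgroup (Perm (Fin 6))} (h : X ≤ Y) : monSub X ≤ monSub Y :=
  fun _ ⟨π, hπ, e, hg⟩ => ⟨π, h hπ, e, hg⟩

theorem sum_eq_zero {g : G6} {π : Perm (Fin 6)} {e : E6} (h : mat6 g = mon π e) : ∑ c, e c = 0 :=
  wp_eq_one _ (by rw [← mon_det, ← h, g.1.2])

theorem mo_mem {X : Subgroup (Perm (Fin 6))} {π : Perm (Fin 6)} (hπ : π ∈ X) (e : E6) (h : ∑ c, e c = 0) :
    mo π e h ∈ monSub X := ⟨π, hπ, e, rfl⟩

theorem card_e6 : Nat.card {e : E6 // ∑ c, e c = 0} = 243 := by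
  rw [Nat.card_eq_fintype_card]
  decide +kernel

theorem card_monSub (X : Subgroup (Perm (Fin 6))) : Nat.card (monSub X) = Nat.card X * 243 := by
  rw [← card_e6, ← Nat.card_prod]
  symm
  refine Nat.card_congr (Equiv.ofBijective (fun q : X × {e : E6 // ∑ c, e c = 0} =>
    (⟨mo q.1.1 q.2.1 q.2.2, mo_mem q.1.2 _ _⟩ : monSub X)) ⟨fun q q' h => ?_, fun g => ?_⟩)
  · obtain ⟨h1, h2⟩ := mon_inj (congrArg (fun z : monSub X => mat6 z.1) h)
    exact Prod.ext (Subtype.ext h1) (Subtype.ext h2)
  · obtain ⟨π, hπ, e, hg⟩ := g.2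
    exact ⟨(⟨π, hπ⟩, ⟨e, sum_eq_zero hg⟩), Subtype.ext (mat_inj hg.symm)⟩

/-- The diagonal group. -/
def DG : Subgroup G6 := monSub ⊥

/-- All monomial elements. -/
def NG : Subgroup G6 := monSub ⊤

/-- The monomial elements of even permutations. -/
def MG : Subgroup G6 := monSub (alternatingGroup (Fin 6))

theorem DG_le (X : Subgroup (Perm (Fin 6))) : DG ≤ monSub X := monSub_mono bot_le

theorem mem_DG {g : G6} : g ∈ DG ↔ ∃ e, mat6 g = mon 1 e := by
  constructor
  · rintro ⟨π, hπ, e, hg⟩
    obtain rfl := Subgroup.mem_bot.1 hπ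
    exact ⟨e, hg⟩
  · rintro ⟨e, hg⟩
    exact ⟨1, Subgroup.one_mem _, e, hg⟩

theorem DG_comm {a b : G6} (ha : a ∈ DG) (hb : b ∈ DG) : a * b = b * a := by
  obtain ⟨e, he⟩ := mem_DG.1 ha
  obtain ⟨f, hf⟩ := mem_DG.1 hb
  refine mat_inj ?_
  rw [mat_mul, mat_mul, he, hf, mon_mul, mon_mul]
  exact congrArg _ (funext fun c => by simp [add_comm])

theorem conj_DG {g a : G6} (hg : g ∈ NG) (ha : a ∈ DG) : g * a * g⁻¹ ∈ DG := by
  obtain ⟨π, -, e, hge⟩ := hg
  obtain ⟨f, hf⟩ := mem_DG.1 ha
  have hi : mat6 g⁻¹ = mon π⁻¹ (fun c => -e (π⁻¹ c)) := mat_inv_of (by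
    rw [hge, mon_mul, inv_mul_cancel, ← mon_one]
    exact congrArg _ (funext fun c => by simp))
  refine mem_DG.2 ⟨fun c => f (π⁻¹ c), ?_⟩
  rw [mat_mul, mat_mul, hge, hf, hi, mon_mul, mon_mul]
  congr 1
  · simp
  · funext c
    simp

theorem scalars_le_DG : scalars ≤ DG := by
  rintro g ⟨c, hc⟩
  have hc0 : c ≠ 0 := by
    rintro rfl
    have h1 := congrArg Matrix.det hc
    rw [scalarM, zero_smul, det_zero, g.1.2] at h1
    exact one_ne_zero h1
  obtain ⟨a, rfl⟩ := exists_wp c hc0
  refine mem_DG.2 ⟨fun _ => a, hc.trans ?_⟩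
  ext r s
  rcases eq_or_ne r s with rfl | h
  · simp [scalarM, mon]
  · simp [scalarM, mon, h]

theorem unitary (g : G6) : (mat6 g)ᵀ * (mat6 g).map (fun x => x ^ 2) = 1 := by
  ext i j
  have h : hf (mat6 g *ᵥ Pi.single i 1) (mat6 g *ᵥ Pi.single j 1) = hf (Pi.single i 1) (Pi.single j 1) :=
    g.2 _ _
  simp only [mulVec_single_one, hf, Cfsg.hermForm] at h
  rw [Matrix.mul_apply]
  refine (Eq.trans ?_ h).trans ?_
  · rfl
  · rw [Finset.sum_eq_single i]
    · rcases eq_or_ne i j with rfl | hne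
      · simp
      · simp [Matrix.one_apply, hne]
    · intro r _ hr
      simp [hr]
    · simp

theorem exists_ne_zero (g : G6) (j : Fin 6) : ∃ r, mat6 g r j ≠ 0 := by
  by_contra h
  simp only [not_exists, not_not] at h
  exact one_ne_zero (g.1.2.symm.trans (det_eq_zero_of_column_eq_zero j h))

/-- An element with at most one nonzero entry in each column is monomial. -/
theorem mem_NG {g : G6} (h : ∀ j r s, mat6 g r j ≠ 0 → mat6 g s j ≠ 0 → r = s) : g ∈ NG := by
  choose p hp using exists_ne_zero g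
  have hval : ∀ j, ∃ a, wp a = mat6 g (p j) j := fun j => exists_wp _ (hp j)
  choose e he using hval
  have hinj : Function.Injective p := fun i j hij => by
    by_contra hne
    have h1 := congrFun (congrFun (unitary g) i) j
    rw [Matrix.mul_apply, Finset.sum_eq_single (p i) (fun r _ hr => by
      have : mat6 g r i = 0 := by
        by_contra hr'
        exact hr (h i r (p i) hr' (hp i))
      simp [this]) (by simp), Matrix.one_apply_ne hne] at h1
    rw [transpose_apply, map_apply, mul_eq_zero, pow_eq_zero_iff two_ne_zero] at h1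
    rcases h1 with h1 | h1
    · exact hp i h1
    · exact hp j (hij ▸ h1)
  refine ⟨Equiv.ofBijective p (Finite.injective_iff_bijective.1 hinj), trivial, e, ?_⟩
  ext r j
  by_cases hr : r = p j
  · subst hr
    simp [mon, he]
  · have h0 : mat6 g r j = 0 := by
      by_contra hne
      exact hr (h j r (p j) hne (hp j))
    simp [mon, hr, h0]

theorem exists_separating : ∀ r s : Fin 6, r ≠ s → ∃ e : E6, (∑ c, e c = 0) ∧ e r ≠ e s := by
  intro r s h
  refine ⟨fun c => if c = r then 1 else if c = s then -1 else 0, ?_, ?_⟩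
  · revert h s r
    decide +kernel
  · revert h s r
    decide +kernel

/-- What normalises the diagonal group is monomial. -/
theorem mem_NG_of_normalizes {g : G6} (h : ∀ a ∈ DG, g⁻¹ * a * g ∈ DG) : g ∈ NG := by
  refine mem_NG fun j r s hr hs => by_contra fun hrs => ?_
  obtain ⟨e, he, hes⟩ := exists_separating r s hrs
  obtain ⟨f, hf⟩ := mem_DG.1 (h _ (mo_mem (Subgroup.one_mem ⊥) e he))
  have hm : mon 1 e * mat6 g = mat6 g * mon 1 f := by
    rw [← hf, ← mat_mo 1 e he, ← mat_mul, ← mat_mul]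
    exact congrArg mat6 (show mo 1 e he * g = g * (g⁻¹ * mo 1 e he * g) by group)
  have key : ∀ x, mat6 g x j ≠ 0 → e x = f j := fun x hx => by
    have h1 := congrFun (congrFun hm x) j
    rw [Matrix.mul_apply, Matrix.mul_apply, Finset.sum_eq_single x (fun y _ hy => by simp [mon, Ne.symm hy]) (by simp),
      Finset.sum_eq_single j (fun y _ hy => by simp [mon, hy]) (by simp)] at h1
    simp only [mon, Perm.one_apply, if_true] at h1
    rw [mul_comm (mat6 g x j)] at h1
    exact wp_inj _ _ (mul_right_cancel₀ hx h1)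
  exact hes ((key r hr).trans (key s hs).symm)

/-! ### Generation of the even monomial group -/

/-- The three-cycles at the first two letters. -/
def cyc (k : ℕ) : Perm (Fin 6) :=
  Equiv.swap 0 ⟨(k + 2) % 6, Nat.mod_lt _ (by norm_num)⟩ * Equiv.swap 0 1

/-- Words for the products of two transpositions. -/
def swWords : List (List ℕ) := [[], [], [0], [1], [2], [3], [], [], [0, 0], [1, 1], [2, 2], [3, 3], [0], [0, 0], [], [0, 1, 1, 0], [0, 2, 2, 0], [0, 3, 3, 0], [1], [1, 1], [0, 1, 1, 0], [], [1, 2, 2, 1], [1, 3, 3, 1], [2], [2, 2], [0, 2, 2, 0], [1, 2, 2, 1], [], [2, 3, 3, 2], [3], [3, 3], [0, 3, 3, 0], [1, 3, 3, 1], [2, 3, 3, 2], []]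

/-- Words for the conjugates by the first transposition. -/
def cjWords : List (List ℕ) := [[0, 0], [1, 1], [2, 2], [3, 3]]

/-- Words moving the first two letters. -/
def prWords : List (List ℕ) := [[0, 0, 3], [3], [0, 3], [1, 3], [2, 3]]

/-- A word in the three-cycles. -/
def cWord (w : List ℕ) : Perm (Fin 6) := (w.map cyc).prod

theorem sw_ok : ∀ a b : Fin 6, a ≠ b → (∀ k ∈ swWords.getD (a.1 * 6 + b.1) [], k < 4) ∧
    cWord (swWords.getD (a.1 * 6 + b.1) []) = Equiv.swap a b * Equiv.swap 0 1 := by decide +kernel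

theorem cj_ok : ∀ k < 4, (∀ i ∈ cjWords.getD k [], i < 4) ∧
    cWord (cjWords.getD k []) = Equiv.swap 0 1 * cyc k * Equiv.swap 0 1 := by decide +kernel

theorem pr_ok : ∀ i : Fin 5, (∀ k ∈ prWords.getD i.1 [], k < 4) ∧
    cWord (prWords.getD i.1 []) 0 = i.castSucc ∧ cWord (prWords.getD i.1 []) 1 = 5 := by decide +kernel

theorem cWord_mem {X : Subgroup (Perm (Fin 6))} (hX : ∀ k < 4, cyc k ∈ X) {w : List ℕ}
    (hw : ∀ k ∈ w, k < 4) : cWord w ∈ X :=
  Subgroup.list_prod_mem _ fun x hx => by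
    obtain ⟨k, hk, rfl⟩ := List.mem_map.1 hx
    exact hX k (hw k hk)

theorem alt_le {X : Subgroup (Perm (Fin 6))} (hX : ∀ k < 4, cyc k ∈ X) :
    alternatingGroup (Fin 6) ≤ X := by
  set Y : Subgroup (Perm (Fin 6)) := Subgroup.closure (cyc '' {k | k < 4}) with hY
  have hYX : Y ≤ X := (Subgroup.closure_le _).2 (by rintro _ ⟨k, hk, rfl⟩; exact hX k hk)
  have hcY : ∀ k < 4, cyc k ∈ Y := fun k hk => Subgroup.subset_closure ⟨k, hk, rfl⟩
  set s : Perm (Fin 6) := Equiv.swap 0 1 with hs
  have hss : s * s = 1 := Equiv.swap_mul_self _ _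
  have hconj : ∀ y ∈ Y, s * y * s ∈ Y := by
    intro y hy
    induction hy using Subgroup.closure_induction with
    | mem y hy =>
      obtain ⟨k, hk, rfl⟩ := hy
      exact (cj_ok k hk).2 ▸ cWord_mem hcY (cj_ok k hk).1
    | one => simp [hss]
    | mul x y _ _ ix iy =>
      rw [show s * (x * y) * s = s * x * (s * s) * y * s by rw [hss]; group]
      rw [show s * x * (s * s) * y * s = s * x * s * (s * y * s) by group]
      exact mul_mem ix iy
    | inv x _ ix =>
      have : s * x⁻¹ * s = (s * x * s)⁻¹ := by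
        rw [_root_.mul_inv_rev, _root_.mul_inv_rev, inv_eq_of_mul_eq_one_right hss]
        group
      exact this ▸ inv_mem ix
  have hall : ∀ π : Perm (Fin 6), π ∈ Y ∨ π * s ∈ Y := by
    intro π
    induction π using Equiv.Perm.swap_induction_on with
    | one => exact Or.inl (one_mem _)
    | swap_mul f a b hab ih =>
      have h1 : Equiv.swap a b * s ∈ Y := (sw_ok a b hab).2 ▸ cWord_mem hcY (sw_ok a b hab).1
      rcases ih with h | h
      · refine Or.inr ?_
        rw [show Equiv.swap a b * f * s = Equiv.swap a b * s * (s * f * s) by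
          rw [show Equiv.swap a b * s * (s * f * s) = Equiv.swap a b * (s * s) * f * s by group, hss, mul_one]]
        exact mul_mem h1 (hconj f h)
      · refine Or.inl ?_
        rw [show Equiv.swap a b * f = Equiv.swap a b * s * (s * (f * s) * s) by
          rw [show Equiv.swap a b * s * (s * (f * s) * s) = Equiv.swap a b * (s * s) * f * (s * s) by group, hss,
            mul_one, mul_one]]
        exact mul_mem h1 (hconj _ h)
  intro π hπ
  rcases hall π with h | h
  · exact hYX h
  · exfalso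
    have hYalt : Y ≤ alternatingGroup (Fin 6) := (Subgroup.closure_le _).2 (by
      rintro _ ⟨k, hk, rfl⟩
      exact Perm.mem_alternatingGroup.2 ((by decide +kernel : ∀ k < 4, Perm.sign (cyc k) = 1) k hk))
    have h1 := Perm.mem_alternatingGroup.1 (hYalt h)
    rw [map_mul, Perm.mem_alternatingGroup.1 hπ, one_mul, hs, Perm.sign_swap (by decide)] at h1
    exact absurd h1 (by decide)

/-- The first diagonal element. -/
def d01 : E6 := ![1, 2, 0, 0, 0, 0]

theorem diag_split : ∀ e : E6, ∑ c, e c = 0 →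
    ∀ c : Fin 6, e c = ∑ i : Fin 5, e i.castSucc * ((if c = i.castSucc then 1 else 0) - (if c = 5 then 1 else 0)) := by
  decide +kernel

/-- A subgroup with the three-cycles and one diagonal element holds the even monomial group. -/
theorem MG_le {H : Subgroup G6} (hd : ∀ g : G6, mat6 g = mon 1 d01 → g ∈ H)
    (hc : ∀ k < 4, ∀ g : G6, mat6 g = mon (cyc k) 0 → g ∈ H) : MG ≤ H := by
  let X : Subgroup (Perm (Fin 6)) :=
    { carrier := {π | mo π 0 (by simp) ∈ H}
      one_mem' := by
        show mo 1 0 _ ∈ H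
        rw [show mo 1 0 _ = 1 from mat_inj mon_one]
        exact one_mem _
      mul_mem' := fun {π π'} h h' => by
        have := H.mul_mem h h'
        rwa [show mo π 0 _ * mo π' 0 _ = mo (π * π') 0 (by simp) from mat_inj (by
          rw [mat_mul, mat_mo, mat_mo, mat_mo, mon_mul]; exact congrArg _ (funext fun c => by simp))] at this
      inv_mem' := fun {π} h => by
        have := H.inv_mem h
        rwa [show (mo π 0 _)⁻¹ = mo π⁻¹ 0 (by simp) from mat_inj (mat_inv_of (by
          rw [mat_mo, mat_mo, mon_mul, inv_mul_cancel, ← mon_one]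
          exact congrArg _ (funext fun c => by simp)))] at this }
  have hX : alternatingGroup (Fin 6) ≤ X := alt_le fun k hk => hc k hk _ rfl
  let E : AddSubgroup E6 :=
    { carrier := {e | ∑ c, e c = 0 ∧ ∀ g : G6, mat6 g = mon 1 e → g ∈ H}
      zero_mem' := ⟨by simp, fun g hg => by
        rw [show g = 1 from mat_inj (hg.trans mon_one)]
        exact one_mem _⟩
      add_mem' := fun {e f} he hf => ⟨by simp [Finset.sum_add_distrib, he.1, hf.1], fun g hg => by
        rw [show g = mo 1 e he.1 * mo 1 f hf.1 from mat_inj (by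
          rw [hg, mat_mul, mat_mo, mat_mo, mon_mul, mul_one]; exact congrArg _ (funext fun c => by simp))]
        exact mul_mem (he.2 _ rfl) (hf.2 _ rfl)⟩
      neg_mem' := fun {e} he => ⟨by simp [he.1], fun g hg => by
        rw [← inv_inv g]
        refine inv_mem (he.2 _ (mat_inv_of ?_))
        rw [hg, mon_mul, mul_one, ← mon_one]
        exact congrArg _ (funext fun c => by simp)⟩ }
  have hf : ∀ i : Fin 5, (fun c : Fin 6 => (if c = i.castSucc then (1 : ZMod 3) else 0) - (if c = 5 then 1 else 0)) ∈ E := by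
    intro i
    obtain ⟨hw, h0, h1⟩ := pr_ok i
    have hπX : cWord (prWords.getD i.1 []) ∈ X := cWord_mem (fun k hk => hX (Perm.mem_alternatingGroup.2
      ((by decide +kernel : ∀ k < 4, Perm.sign (cyc k) = 1) k hk))) hw
    set π := cWord (prWords.getD i.1 []) with hπ
    refine ⟨(by decide +kernel : ∀ i : Fin 5, ∑ c : Fin 6, ((if c = i.castSucc then (1 : ZMod 3) else 0) -
      (if c = 5 then 1 else 0)) = 0) i, fun g hg => ?_⟩
    have hm := H.mul_mem (H.mul_mem hπX (hd (mo 1 d01 (by decide)) rfl)) (H.inv_mem hπX)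
    convert hm using 1
    refine mat_inj ?_
    rw [hg, mat_mul, mat_mul, mat_mo, mat_mo, mat_inv_of (Y := mon π⁻¹ 0) (by
      rw [mat_mo, mon_mul, inv_mul_cancel, ← mon_one]; exact congrArg _ (funext fun c => by simp)),
      mon_mul, mon_mul]
    congr 1
    · simp
    · funext c
      have hsum : ∀ d : Fin 6, d01 d = (if d = 0 then 1 else 0) - (if d = 1 then 1 else 0) := by decide
      have e0 : π⁻¹ c = 0 ↔ c = i.castSucc := by rw [Perm.inv_eq_iff_eq, h0]
      have e1 : π⁻¹ c = 1 ↔ c = 5 := by rw [Perm.inv_eq_iff_eq, h1]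
      simp only [Pi.zero_apply, zero_add, add_zero, Perm.one_apply, hsum, e0, e1]
  rintro g ⟨π, hπ, e, hg⟩
  have he : ∑ c, e c = 0 := sum_eq_zero hg
  have hE : e ∈ E := by
    have h1 : e = ∑ i : Fin 5, (e i.castSucc).val •
        (fun c : Fin 6 => (if c = i.castSucc then (1 : ZMod 3) else 0) - (if c = 5 then 1 else 0)) := by
      funext c
      rw [Finset.sum_apply]
      simp only [Pi.smul_apply, nsmul_eq_mul, ZMod.natCast_zmod_val]
      exact diag_split e he c
    rw [h1]
    exact E.sum_mem fun i _ => E.nsmul_mem (hf i) _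
  rw [show g = mo π 0 (by simp) * mo 1 e he from mat_inj (by
    rw [hg, mat_mul, mat_mo, mat_mo, mon_mul, mul_one]; exact congrArg _ (funext fun c => by simp))]
  exact mul_mem (hX hπ) (hE.2 _ rfl)

end CfsgLib.Spor.U43Six
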