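import Cfsg.Agent.Lib.Spor.U43Six.Frame

/-!
A subgroup of the order of the triple cover that contains the even monomial group is one of the three images.
-/

set_option autoImplicit false
set_option maxRecDepth 100000

namespace CfsgLib.Spor.U43Six

open Matrix CfsgLib.Spor.Fi22.U6 Equiv

/-- The block of a coordinate. -/
def sidx (r : Fin 6) : Fin 2 := if side r then 1 else 0

/-- A vector filling a block, with a given class. -/
def fv (s : Fin 2) (t a : ZMod 3) : V6 := fun r =>
  if side r = decide (s.1 = 1) then wp (if r.1 % 3 = 0 then 0 else if r.1 % 3 = 1 then a else t - a) else 0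

theorem blk_mem : ∀ r : Fin 6, ∀ s : Fin 2, r ∈ blk s ↔ sidx r = s := by decide +kernel

theorem fv_orth : ∀ (s : Fin 2) (t t' a a' : ZMod 3), ∑ r, fv s t a r * fv s t' a' r ^ 2 = 0 → t = t' := by
  decide +kernel

theorem exists_fv {v : V6} {s : Fin 2} (h : supp v = blk s) :
    ∃ c : Four, c ≠ 0 ∧ ∃ t a, v = c • fv s t a := by
  have hne : ∀ i, v (at3 s i) ≠ 0 := fun i => mem_supp.1 (h ▸ (blk_mem _ _).2
    ((by decide : ∀ s i, sidx (at3 s i) = s) s i))
  obtain ⟨a, ha⟩ := exists_wp _ (mul_ne_zero (inv_ne_zero (hne 0)) (hne 1))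
  obtain ⟨b, hb⟩ := exists_wp _ (mul_ne_zero (inv_ne_zero (hne 0)) (hne 2))
  refine ⟨v (at3 s 0), hne 0, a + b, a, funext fun r => ?_⟩
  by_cases hr : sidx r = s
  · obtain ⟨i, rfl⟩ := (by decide : ∀ s r, sidx r = s → ∃ i, at3 s i = r) s r hr
    have hfv : fv s (a + b) a (at3 s i) = wp (if i = 0 then 0 else if i = 1 then a else b) :=
      (by decide : ∀ s i a b, fv s (a + b) a (at3 s i) = wp (if i = 0 then 0 else if i = 1 then a else b)) s i a b
    rw [Pi.smul_apply, smul_eq_mul, hfv]
    fin_cases i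
    · exact (mul_one _).symm
    · show _ = _ * wp a
      rw [ha, mul_inv_cancel_left₀ (hne 0)]
      rfl
    · show _ = _ * wp b
      rw [hb, mul_inv_cancel_left₀ (hne 0)]
      rfl
  · have h0 : v r = 0 := not_not.1 fun h' => hr ((blk_mem _ _).1 (h ▸ mem_supp.2 h'))
    have h1 : fv s (a + b) a r = 0 :=
      (by decide : ∀ s r, sidx r ≠ s → ∀ t a, fv s t a r = 0) s r hr _ _
    rw [Pi.smul_apply, h0, h1, smul_eq_mul, mul_zero]

/-! ### The transition elements -/

theorem g_ok : ∀ i < 2, (tmat Data.gRows i).det = 1 ∧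
    (tmat Data.gRows i)ᵀ * (tmat Data.gRows i).map (fun x => x ^ 2) = 1 := by decide +kernel

/-- The element with a full block on both sides. -/
def gA : G6 := mkG (tmat Data.gRows 0) (g_ok 0 (by norm_num))

/-- The element with a full block on one side. -/
def gB : G6 := mkG (tmat Data.gRows 1) (g_ok 1 (by norm_num))

/-- The shift of the classes of the two blocks. -/
def shf (t : ZMod 3) : E6 := ![-t, 0, 0, t, 0, 0]

/-- The exchange of the blocks. -/
def bswap : Perm (Fin 6) := Equiv.swap 0 3 * Equiv.swap 1 4 * Equiv.swap 2 5 * Equiv.swap 0 1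

theorem shf_sum : ∀ t, ∑ c, shf t c = 0 := by decide

theorem bswap_alt : Perm.sign bswap = 1 := by decide +kernel

/-- The monomial factor of a pair of types. -/
def mfac : Option (ZMod 3) → Option (ZMod 3) → Perm (Fin 6) × E6
  | some _, some t => (1, shf t)
  | none, some t => (1, shf t)
  | some s, none => (bswap, shf s)
  | none, none => (1, shf 0)

theorem mfac_sum : ∀ a b, ∑ c, (mfac a b).2 c = 0 := by
  rintro (_ | s) (_ | t) <;> exact shf_sum _

/-- The monomial factor as an element. -/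
def mel (a b : Option (ZMod 3)) : G6 := mo (mfac a b).1 (mfac a b).2 (mfac_sum a b)

theorem mel_mem (a b : Option (ZMod 3)) : mel a b ∈ MG := by
  refine mo_mem (Perm.mem_alternatingGroup.2 ?_) _ _
  rcases a with _ | s <;> rcases b with _ | t <;> simp [mfac, bswap_alt]

/-- The base element of a pair of types. -/
def base : Option (ZMod 3) → Option (ZMod 3) → G6
  | some s, some t => th (s + t) gA
  | _, _ => gB

/-- The matrix of a pair of types. -/
def xmat : Option (ZMod 3) → Option (ZMod 3) → M6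
  | some s, some t => mon (mfac (some s) (some t)).1 (mfac (some s) (some t)).2 *
      (dm (s + t) * tmat Data.gRows 0 * dm (-(s + t)))
  | a, b => mon (mfac a b).1 (mfac a b).2 * tmat Data.gRows 1

theorem mat_xel : ∀ a b, mat6 (mel a b * base a b) = xmat a b
  | some _, some _ => rfl
  | some _, none => rfl
  | none, some _ => rfl
  | none, none => rfl

/-- The type of a side. -/
def tsel (a b : Option (ZMod 3)) (s : Fin 2) : Option (ZMod 3) := if s = 0 then a else b

theorem xmat_cover : ∀ a b : Option (ZMod 3), (a, b) ≠ (none, none) →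
    (∀ r : Fin 6, tsel a b (sidx r) = none →
      ∃ c : Fin 6, ∃ l : Four, ∀ x, (Pi.single r 1 : V6) x = l * xmat a b x c) ∧
    ∀ s : Fin 2, ∀ t u : ZMod 3, tsel a b s = some t →
      ∃ c : Fin 6, ∃ l : Four, ∀ x, fv s t u x = l * xmat a b x c := by decide +kernel

/-- An element whose columns are proportional to those of another differs from it by a monomial one. -/
theorem mem_NG_of_cols {k X : G6} (h : ∀ j, ∃ c l, ∀ r, mat6 k r j = l * mat6 X r c) : X⁻¹ * k ∈ NG := by
  refine mem_NG fun j r s hr hs => ?_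
  obtain ⟨c, l, hc⟩ := h j
  have key : ∀ r, mat6 (X⁻¹ * k) r j ≠ 0 → r = c := fun r hr => by
    by_contra hne
    refine hr ?_
    have h1 : mat6 X⁻¹ * mat6 X = 1 := by rw [← mat_mul, inv_mul_cancel, mat_one]
    have h2 := congrFun (congrFun h1 r) c
    rw [Matrix.mul_apply, Matrix.one_apply_ne hne] at h2
    rw [mat_mul, Matrix.mul_apply, Finset.sum_congr rfl fun y _ => show
      mat6 X⁻¹ r y * mat6 k y j = l * (mat6 X⁻¹ r y * mat6 X y c) by rw [hc]; ring, ← Finset.mul_sum, h2, mul_zero]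
  exact (key r hr).trans (key s hs).symm

/-- An element whose columns lie on the coordinates and blocks is a transition element, up to monomial ones. -/
theorem exists_type {k : G6} (hkN : k ∉ NG)
    (hs : ∀ j, (supp (col k j)).card = 1 ∨ ∃ s, supp (col k j) = blk s) :
    ∃ a b, (mel a b * base a b)⁻¹ * k ∈ NG := by
  classical
  let full : Fin 2 → Prop := fun s => ∃ j, supp (col k j) = blk s
  let ty : Fin 2 → Option (ZMod 3) := fun s =>
    if h : full s then some (exists_fv h.choose_spec).choose_spec.2.choose else none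
  have hsing : ∀ j r, supp (col k j) = {r} → ty (sidx r) = none := fun j r hj => by
    refine dif_neg fun ⟨i, hi⟩ => ?_
    have hij : i ≠ j := by
      rintro rfl
      rw [hi] at hj
      have := congrArg Finset.card hj
      rw [Finset.card_singleton, (by decide : ∀ s, (blk s).card = 3)] at this
      omega
    have h0 := col_orth k i j
    have hr : r ∈ supp (col k j) := by rw [hj]; exact Finset.mem_singleton_self r
    have hri : r ∈ supp (col k i) := by rw [hi, blk_mem]
    rw [if_neg hij, Finset.sum_eq_single r (fun x _ hx => by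
      rw [show col k j x = 0 from not_not.1 fun h => hx (Finset.mem_singleton.1 (hj ▸ mem_supp.2 h))]; simp)
      (by simp), mul_eq_zero, pow_eq_zero_iff two_ne_zero] at h0
    exact h0.elim (mem_supp.1 hri) (mem_supp.1 hr)
  have hfull : ∀ j s, supp (col k j) = blk s → ∃ c : Four, ∃ t u, ty s = some t ∧ col k j = c • fv s t u := by
    intro j s hj
    have hF : full s := ⟨j, hj⟩
    obtain ⟨c, hc, t, u, hv⟩ := exists_fv hj
    refine ⟨c, t, u, ?_, hv⟩
    simp only [ty, dif_pos hF, Option.some.injEq]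
    have hsp := (exists_fv hF.choose_spec).choose_spec
    obtain ⟨hc0, ht0⟩ := hsp
    obtain ⟨u0, hu0⟩ := (exists_fv hF.choose_spec).choose_spec.2.choose_spec
    by_cases hij : hF.choose = j
    · have e : col k j = (exists_fv hF.choose_spec).choose • fv s (exists_fv hF.choose_spec).choose_spec.2.choose u0 := by
        rw [← hu0, hij]
      rw [hv] at e
      -- the same vector has one class
      have hcls : ∀ (c c' : Four) (s : Fin 2) (t t' u u' : ZMod 3), c ≠ 0 → c • fv s t u = c' • fv s t' u' → t' = t := by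
        decide +kernel
      exact hcls _ _ _ _ _ _ _ hc e
    · have h0 := col_orth k hF.choose j
      rw [if_neg hij, hu0, hv] at h0
      simp only [Pi.smul_apply, smul_eq_mul, mul_pow] at h0
      rw [Finset.sum_congr rfl fun x _ => show
        (exists_fv hF.choose_spec).choose * fv s (exists_fv hF.choose_spec).choose_spec.2.choose u0 x *
          (c ^ 2 * fv s t u x ^ 2) = ((exists_fv hF.choose_spec).choose * c ^ 2) *
          (fv s (exists_fv hF.choose_spec).choose_spec.2.choose u0 x * fv s t u x ^ 2) by ring,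
        ← Finset.mul_sum, mul_eq_zero] at h0
      exact fv_orth _ _ _ _ _ (h0.resolve_left (mul_ne_zero hc0 (pow_ne_zero _ hc)))
  have hnn : (ty 0, ty 1) ≠ (none, none) := fun h => by
    refine hkN (mem_NG fun j r s hr hs' => ?_)
    rcases hs j with h1 | ⟨t, ht⟩
    · exact Finset.card_le_one.1 h1.le r (mem_supp.2 hr) s (mem_supp.2 hs')
    · obtain ⟨-, t', -, ht', -⟩ := hfull j t ht
      simp only [Prod.mk.injEq] at h
      fin_cases t
      · exact absurd (h.1.symm.trans ht') (by simp)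
      · exact absurd (h.2.symm.trans ht') (by simp)
  refine ⟨ty 0, ty 1, mem_NG_of_cols fun j => ?_⟩
  have hsel : ∀ s, tsel (ty 0) (ty 1) s = ty s := fun s => by fin_cases s <;> rfl
  obtain ⟨hax, hfv⟩ := xmat_cover _ _ hnn
  rw [mat_xel]
  rcases hs j with h1 | ⟨s, h3⟩
  · obtain ⟨r, hr⟩ := Finset.card_eq_one.1 h1
    obtain ⟨c, l, hl⟩ := hax r ((hsel _).trans (hsing j r hr))
    refine ⟨c, col k j r * l, fun x => ?_⟩
    rw [mul_assoc, ← hl]
    show col k j x = _
    by_cases hx : x = r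
    · rw [hx, Pi.single_eq_same, mul_one]
    · rw [Pi.single_eq_of_ne hx, mul_zero]
      exact not_not.1 fun h => hx (Finset.mem_singleton.1 (hr ▸ mem_supp.2 h))
  · obtain ⟨c0, t, u, ht, hv⟩ := hfull j s h3
    obtain ⟨c, l, hl⟩ := hfv s t u ((hsel _).trans ht)
    refine ⟨c, c0 * l, fun x => ?_⟩
    rw [mul_assoc, ← hl]
    exact congrFun hv x

/-! ### A large stabiliser -/

theorem conj_MG {g a : G6} (hg : g ∈ NG) (ha : a ∈ MG) : g * a * g⁻¹ ∈ MG := by
  obtain ⟨π, -, e, he⟩ := hg
  obtain ⟨σ, hσ, f, hf⟩ := ha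
  have hi : mat6 g⁻¹ = mon π⁻¹ (fun c => -e (π⁻¹ c)) := mat_inv_of (by
    rw [he, mon_mul, inv_mul_cancel, ← mon_one]
    exact congrArg _ (funext fun c => by simp))
  refine ⟨π * σ * π⁻¹, ?_, _, by rw [mat_mul, mat_mul, he, hf, hi, mon_mul, mon_mul]⟩
  rw [Perm.mem_alternatingGroup] at hσ ⊢
  simp [hσ]

theorem MG_le_NG : MG ≤ NG := monSub_mono le_top

theorem exists_big_stab {L : Subgroup G6} (hMG : MG ≤ L) (hcard : Nat.card L = 9797760) :
    ∃ k ∈ L, k ∉ NG ∧ ∃ Q : Subgroup G6, Q ≤ PG ∧ (∀ q ∈ Q, k⁻¹ * q * k ∈ NG) ∧ 3 ^ 6 ≤ Nat.card Q := by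
  classical
  haveI := Fact.mk Nat.prime_three
  haveI : Finite G6 := Nat.finite_of_card_ne_zero (by rw [card_G6]; norm_num)
  have hPL : PG ≤ L := PG_le_MG.trans hMG
  let H : Subgroup L := NG.subgroupOf L
  let P : Subgroup L := PG.subgroupOf L
  have hP7 : Nat.card P = 3 ^ 7 := by
    rw [Nat.card_congr (Subgroup.subgroupOfEquivOfLe hPL).toEquiv, card_PG]
  -- the number of cosets
  have hn : Nat.card (L ⧸ H) = 56 ∨ Nat.card (L ⧸ H) = 112 := by
    have h1 := Subgroup.card_eq_card_quotient_mul_card_subgroup H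
    have h2 : 87480 ≤ Nat.card H := by
      rw [← card_MG, ← Nat.card_congr (Subgroup.subgroupOfEquivOfLe hMG).toEquiv]
      exact Subgroup.card_le_of_le fun x hx => MG_le_NG hx
    have e : Nat.card H = Nat.card ↥(L ⊓ NG) := by
      rw [show H = (L ⊓ NG).subgroupOf L by ext x; simp [H, Subgroup.mem_subgroupOf],
        Nat.card_congr (Subgroup.subgroupOfEquivOfLe inf_le_left).toEquiv]
    have h4 : Nat.card ↥(L ⊓ NG) ∣ 174960 := card_NG ▸ Subgroup.card_dvd_of_le inf_le_right
    obtain ⟨m, hm⟩ := h4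
    rw [← e] at hm
    rw [hcard] at h1
    have hm2 : m = 1 ∨ m = 2 := by
      have : m ≤ 2 := by
        by_contra h
        have := Nat.mul_le_mul h2 (Nat.succ_le_of_lt (Nat.lt_of_not_le h))
        omega
      rcases m with _ | _ | _ | m <;> omega
    rcases hm2 with rfl | rfl
    · rw [show Nat.card H = 174960 by omega] at h1
      exact Or.inl (by omega)
    · rw [show Nat.card H = 87480 by omega] at h1
      exact Or.inr (by omega)
  let x0 : L ⧸ H := ((1 : L) : L ⧸ H)
  have hfixed : MulAction.orbit P x0 = {x0} := by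
    refine Set.eq_singleton_iff_unique_mem.2 ⟨MulAction.mem_orbit_self _, ?_⟩
    rintro _ ⟨p, rfl⟩
    show ((p.1 * 1 : L) : L ⧸ H) = x0
    rw [mul_one]
    exact QuotientGroup.eq.2 (by
      rw [mul_one]
      exact inv_mem (show p.1 ∈ H from MG_le_NG (PG_le_MG p.2)))
  by_contra hcon
  have h9 : ∀ x : L ⧸ H, x ≠ x0 → 9 ∣ Nat.card (MulAction.orbit P x) := fun x hx => by
    obtain ⟨i, hi⟩ := (IsPGroup.of_card (p := 3) hP7).card_orbit x
    rw [hi]
    by_cases h2 : 2 ≤ i
    · exact (show 9 = 3 ^ 2 by norm_num) ▸ pow_dvd_pow 3 h2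
    exfalso
    refine hcon ?_
    induction x using QuotientGroup.induction_on with
    | _ k =>
      have hk : k.1 ∉ NG := fun hk => hx (QuotientGroup.eq.2 (by
        rw [mul_one]
        exact inv_mem (show k ∈ H from hk)))
      refine ⟨k.1, k.2, hk, (MulAction.stabilizer P ((k : L) : L ⧸ H)).map (L.subtype.comp P.subtype), ?_, ?_, ?_⟩
      · rintro _ ⟨p, -, rfl⟩
        exact p.2
      · rintro _ ⟨p, hp, rfl⟩
        have h : k⁻¹ * (p.1 * k) ∈ H := QuotientGroup.eq.1 (show ((k : L) : L ⧸ H) = ((p.1 * k : L) : L ⧸ H) from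
          (MulAction.mem_stabilizer_iff.1 hp).symm)
        show k.1⁻¹ * p.1.1 * k.1 ∈ NG
        rw [mul_assoc]
        exact h
      · rw [Nat.card_congr (Subgroup.equivMapOfInjective _ _ (fun a b h => Subtype.ext (Subtype.ext h))).toEquiv.symm]
        have hos := Nat.card_congr (MulAction.orbitProdStabilizerEquivGroup P ((k : L) : L ⧸ H))
        rw [Nat.card_prod, hi, hP7] at hos
        have : 3 ^ i ≤ 3 := (Nat.pow_le_pow_right (by norm_num) (by omega : i ≤ 1)).trans (by norm_num)
        have := Nat.mul_le_mul_right (Nat.card (MulAction.stabilizer P ((k : L) : L ⧸ H))) this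
        omega
  letI := Fintype.ofFinite (L ⧸ H)
  letI : Fintype (MulAction.orbitRel.Quotient P (L ⧸ H)) := Fintype.ofFinite _
  have hsum : Nat.card (L ⧸ H) =
      ∑ ω : MulAction.orbitRel.Quotient P (L ⧸ H), Nat.card (MulAction.orbit P ω.out) := by
    rw [Nat.card_congr (MulAction.selfEquivSigmaOrbits P (L ⧸ H)), Nat.card_sigma]
  let ω0 : MulAction.orbitRel.Quotient P (L ⧸ H) := Quotient.mk _ x0
  have hω : ω0.out = x0 := by
    have : ω0.out ∈ MulAction.orbit P x0 := Quotient.exact (Quotient.out_eq ω0)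
    rw [hfixed] at this
    exact this
  rw [← Finset.add_sum_erase _ _ (Finset.mem_univ ω0), hω, hfixed, Nat.card_eq_fintype_card (α := ({x0} : Set _)),
    Set.card_singleton] at hsum
  have hd : 9 ∣ ∑ ω ∈ Finset.univ.erase ω0, Nat.card (MulAction.orbit P ω.out) :=
    Finset.dvd_sum fun ω hw => h9 _ fun h => (Finset.mem_erase.1 hw).1 (by
      rw [← Quotient.out_eq ω, h])
  obtain ⟨q, hq⟩ := hd
  rw [hq] at hsum
  rcases hn with hn | hn <;> omega

/-! ### The two base cases -/

/-- The matrix of the word. -/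
def elevenM : M6 := fun r i => dec ((Data.elevenOne.getD i.1 []).headD 0) r

theorem word_eleven_ok : colsOK Data.g0Rows ((List.replicate 11 Data.elevenWord).flatten) Data.elevenTraj 1 = true ∧
    (∀ k ∈ Data.elevenWord, k < 10) ∧
    colsOK Data.g0Rows Data.elevenWord Data.elevenOne elevenM = true ∧ elevenM ≠ 1 := by decide +kernel

theorem g0_rows_ok : ∀ k : Fin 5,
    tmat Data.g0Rows k.1 = mon (mgen k).1 (mgen k).2 ∧
    tmat Data.g0Rows (5 + k.1) * tmat Data.gRows 1 = tmat Data.gRows 1 * mon (mgen k).1 (mgen k).2 := by decide +kernel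

theorem gp_rows_ok : ∀ k : Fin 5,
    tmat Data.gpRows k.1 = mon (mgen k).1 (mgen k).2 ∧
    tmat Data.gpRows (5 + k.1) * tmat Data.gRows 0 = tmat Data.gRows 0 * mon (mgen k).1 (mgen k).2 ∧
    tmat Data.gpRows (10 + k.1) * tmat Data.gpRows k.1 = 1 ∧
    tmat Data.gpRows (15 + k.1) * tmat Data.gpRows (5 + k.1) = 1 := by decide +kernel

theorem ab_words_ok : ∀ s : Fin 2, (∀ j ∈ (Data.abWords.getD s.1 ([], 0)).1, j < 20) ∧
    colsOK Data.gpRows (Data.abWords.getD s.1 ([], 0)).1 (Data.abTraj.getD s.1 [])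
      (ofN (Data.abWords.getD s.1 ([], 0)).2 • tmat Data.abRows s.1) = true := by decide +kernel

theorem mgen_alt : ∀ k : Fin 5, Perm.sign (mgen k).1 = 1 ∧ ∑ c, (mgen k).2 c = 0 := by decide +kernel

theorem mgen_exists (k : Fin 5) : ∃ m ∈ MG, mat6 m = mon (mgen k).1 (mgen k).2 :=
  ⟨mo _ _ (mgen_alt k).2, mo_mem (Perm.mem_alternatingGroup.2 (mgen_alt k).1) _ _, rfl⟩

/-- The letters of a table whose first five are monomial and whose next five are their conjugates. -/
theorem letters {L : Subgroup G6} (hM : MG ≤ L) {Y : G6} (hY : ∀ m ∈ MG, Y * m * Y⁻¹ ∈ L) {R : List (List ℕ)}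
    {G : M6} (hG : mat6 Y = G) (hR : ∀ k : Fin 5, tmat R k.1 = mon (mgen k).1 (mgen k).2 ∧
      tmat R (5 + k.1) * G = G * mon (mgen k).1 (mgen k).2) :
    ∀ j < 10, ∃ g ∈ L, mat6 g = tmat R j := by
  intro j hj
  by_cases h5 : j < 5
  · obtain ⟨m, hm, e⟩ := mgen_exists ⟨j, h5⟩
    exact ⟨m, hM hm, e.trans (hR ⟨j, h5⟩).1.symm⟩
  · obtain ⟨m, hm, e⟩ := mgen_exists ⟨j - 5, by omega⟩
    refine ⟨_, hY m hm, ?_⟩
    have h2 := (hR ⟨j - 5, by omega⟩).2
    rw [show 5 + (j - 5) = j by omega, ← e, ← hG] at h2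
    rw [mat_mul, mat_mul, ← h2, mul_assoc, ← mat_mul, mul_inv_cancel, mat_one, mul_one]

theorem not_B {L : Subgroup G6} (hcard : Nat.card L = 9797760) (hM : MG ≤ L)
    (hY : ∀ m ∈ MG, gB * m * gB⁻¹ ∈ L) : False := by
  haveI := Fact.mk (show Nat.Prime 11 by norm_num)
  have hl := letters hM hY (R := Data.g0Rows) rfl g0_rows_ok
  let Lt : ℕ → G6 := fun j => if h : j < 10 then (hl j h).choose else 1
  obtain ⟨h11, hlt, hone, hne⟩ := word_eleven_ok
  let x : G6 := (Data.elevenWord.map Lt).prod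
  have hmem : ∀ j < 10, Lt j ∈ L ∧ mat6 (Lt j) = tmat Data.g0Rows j := fun j hj => by
    simp only [Lt, dif_pos hj]
    exact (hl j hj).choose_spec
  have hx : x ∈ L := Subgroup.list_prod_mem _ fun y hy => by
    obtain ⟨j, hj, rfl⟩ := List.mem_map.1 hy
    exact (hmem j (hlt j hj)).1
  have hx1 : x ≠ 1 := fun h => hne (by
    rw [← cols_spec hone, ← mat_word (L := Lt) _ fun j hj => (hmem j (hlt j hj)).2]
    exact (congrArg mat6 h).trans mat_one)
  have hpow : x ^ 11 = 1 := by
    refine mat_inj ((?_ : mat6 (x ^ 11) = _).trans (cols_spec h11))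
    rw [← mat_word (L := Lt) _ (fun j hj => (hmem j (hlt j (by
      obtain ⟨l, hl, hjl⟩ := List.mem_flatten.1 hj
      exact (List.eq_of_mem_replicate hl) ▸ hjl))).2)]
    rw [List.map_flatten, List.prod_flatten, List.map_replicate, List.map_replicate, List.prod_replicate]
  have hord := orderOf_eq_prime hpow hx1
  have hd := Subgroup.orderOf_dvd_natCard L hx
  rw [hord, hcard] at hd
  norm_num at hd

theorem eq_of_A {L : Subgroup G6} (hcard : Nat.card L = 9797760) (hK : Nat.card K1 = 9797760) (hM : MG ≤ L)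
    (hY : ∀ m ∈ MG, gA * m * gA⁻¹ ∈ L) : L = K1 := by
  haveI : Finite G6 := Nat.finite_of_card_ne_zero (by rw [card_G6]; norm_num)
  have hl := letters hM hY (R := Data.gpRows) rfl fun k => ⟨(gp_rows_ok k).1, (gp_rows_ok k).2.1⟩
  have hl2 : ∀ j < 20, ∃ g ∈ L, mat6 g = tmat Data.gpRows j := fun j hj => by
    by_cases h10 : j < 10
    · exact hl j h10
    obtain ⟨g, hg, e⟩ := hl (j - 10) (by omega)
    refine ⟨g⁻¹, inv_mem hg, mat_inv_of ?_⟩
    rw [e]
    by_cases h15 : j < 15
    · have := (gp_rows_ok ⟨j - 10, by omega⟩).2.2.1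
      rwa [show 10 + (j - 10) = j by omega] at this
    · have := (gp_rows_ok ⟨j - 15, by omega⟩).2.2.2
      rwa [show 15 + (j - 15) = j by omega, show 5 + (j - 15) = j - 10 by omega] at this
  let Lt : ℕ → G6 := fun j => if h : j < 20 then (hl2 j h).choose else 1
  have hmem : ∀ j < 20, Lt j ∈ L ∧ mat6 (Lt j) = tmat Data.gpRows j := fun j hj => by
    simp only [Lt, dif_pos hj]
    exact (hl2 j hj).choose_spec
  have hgen : ∀ s : Fin 2, gab ⟨s.1, by omega⟩ ∈ L := fun s => by
    obtain ⟨hw, hc⟩ := ab_words_ok s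
    refine scalar_mul_mem ((scalars_le_DG.trans (DG_le _)).trans hM) (x := (((Data.abWords.getD s.1 ([], 0)).1).map Lt).prod)
      (Subgroup.list_prod_mem _ fun y hy => ?_) ((mat_word _ fun j hj => (hmem j (hw j hj)).2).trans (cols_spec hc))
    obtain ⟨j, hj, rfl⟩ := List.mem_map.1 hy
    exact (hmem j (hw j hj)).1
  refine (Subgroup.eq_of_le_of_card_ge ?_ (by rw [hcard, hK])).symm
  rw [K1, Subgroup.closure_le]
  rintro x (rfl | rfl)
  · exact hgen 0
  · exact hgen 1

theorem eq_Kc {F : Type*} [Field F] [Fintype F] (hF : Fintype.card F = 9) {L : Subgroup G6} (hM : MG ≤ L)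
    (hcard : Nat.card L = 9797760) : ∃ a, L = Kc a := by
  obtain ⟨k, hkL, hkN, Q, hQP, hkQ, hQc⟩ := exists_big_stab hM hcard
  obtain ⟨a, b, hn⟩ := exists_type hkN fun j => supp_cases hkN hQP hkQ hQc j
  set n := (mel a b * base a b)⁻¹ * k with hndef
  have hYn : base a b * n ∈ L := by
    rw [show base a b * n = (mel a b)⁻¹ * k by rw [hndef]; group]
    exact mul_mem (inv_mem (hM (mel_mem a b))) hkL
  have hY : ∀ m ∈ MG, base a b * m * (base a b)⁻¹ ∈ L := fun m hm => by
    have h1 : n⁻¹ * m * n ∈ MG := by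
      have := conj_MG (inv_mem hn) hm
      rwa [inv_inv] at this
    rw [show base a b * m * (base a b)⁻¹ = base a b * n * (n⁻¹ * m * n) * (base a b * n)⁻¹ by group]
    exact mul_mem (mul_mem hYn (hM h1)) (inv_mem hYn)
  rcases a with _ | s
  · exact (not_B hcard hM (by cases b <;> exact hY)).elim
  rcases b with _ | t
  · exact (not_B hcard hM hY).elim
  have hY' : ∀ m ∈ MG, th (s + t) gA * m * (th (s + t) gA)⁻¹ ∈ L := hY
  refine ⟨s + t, ?_⟩
  let L' : Subgroup G6 := L.map (th (-(s + t))).toMonoidHom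
  have hmemL : ∀ x, x ∈ L' ↔ th (s + t) x ∈ L := fun x => by
    constructor
    · rintro ⟨y, hy, rfl⟩
      show th (s + t) (th (-(s + t)) y) ∈ L
      rw [th_th, add_neg_cancel, th_zero]
      exact hy
    · exact fun h => ⟨_, h, show th (-(s + t)) (th (s + t) x) = x by rw [th_th, neg_add_cancel, th_zero]⟩
  have hL' : L' = K1 := by
    refine eq_of_A ?_ (card_K1 hF) (fun m hm => (hmemL m).2 (hM (th_mem_monSub hm))) fun m hm => (hmemL _).2 ?_
    · rw [← Nat.card_congr (L.equivMapOfInjective _ (th (-(s + t))).injective).toEquiv, hcard]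
    · rw [map_mul, map_mul, map_inv]
      exact hY' _ (th_mem_monSub hm)
  ext x
  rw [mem_Kc, ← hL', hmemL, th_th, add_neg_cancel, th_zero]

end CfsgLib.Spor.U43Six
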